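import Cfsg.Agent.H383.Cov.PlusC
import Cfsg.Agent.H781.Cov9.Perm_m3
import Cfsg.Agent.H251.GeoUMain
import Cfsg.Agent.H951.Elem
import Cfsg.Agent.H680.Cov.SU6.Res_m3
import Cfsg.Agent.LieClassical.HermSiegel
import Cfsg.Agent.H375.O8.TypeA_m3
import Cfsg.Agent.S5841
import Cfsg.Agent.S0815
import Cfsg.Agent.S0280
import Cfsg.Agent.FastGrp
import Cfsg.Agent.Prune
set_option linter.all false

section
prune_inst 0x7fffadfdb9b8bddfffff7e77fedddffc3b915fffa6dff94bbfe021ef0bdf03100bc5fbad8de030fe0ee2e21410b87853fbffceffea6bd87ffffd1df45ffbee4ff7ffbd0851968c340fbc6ff793f0778e7f3fffffffffffffffffffffffffffaeffbfffffffff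

-- part: H383/Cov/Plus
section
prune_inst 0x52004607422000000008002000020406800009000000400eda10b420b08e042804020000c000001500290801000000003000010424000000e203000000300000003520613340f04080086800080000000000000000000000000000000010000000000000
set_option linter.all false
open scoped Cfsg.Agent.FastGrp

/-!
# S2499: the groups `PΩ⁺_{2m}(q)`, `m ≥ 5` (helper383, task COV-OPLUS)

`noTwo_plus` : `NoTwo (POmega F (quadFormPlus m F))` for `m ≥ 5`, except `q = 2`, `m ≤ 8` and `q ≤ 5`, `m = 5`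
(the overgroup theorem S5948 is the hypothesis `hP`).
-/

set_option autoImplicit false
set_option linter.unusedSectionVars false

namespace Cfsg.Agent.H383.Cov

open Module Cfsg Cfsg.Geo
open Cfsg.Agent.LieClassical.OrthCore Cfsg.Agent.LieClassical.OrthForms
open Cfsg.Agent.H278.Cov (Red Ext Num NoTwo)
open Cfsg.Agent.H659.CovCore (S5948Stmt)
open Cfsg.Agent.H689 (Ppd exists_ppd)
open scoped MatrixGroups Matrix

variable {F : Type} [Field F] [Fintype F]

theorem isNondeg {ι : Type} {Q : QuadraticForm F (ι → F)} (hQ : Nondeg Q) : IsNondegenerateQuadraticForm ⇑Q := by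
  refine ⟨fun c v => ?_, ⟨?_, ?_, ?_, ?_⟩, ?_⟩
  · rw [QuadraticMap.map_smul, smul_eq_mul, pow_two]
  · intro x y v
    exact QuadraticMap.polar_add_left Q x y v
  · intro c x v
    rw [QuadraticMap.polar_smul_left, smul_eq_mul]
  · intro v x y
    exact QuadraticMap.polar_add_right Q v x y
  · intro c v x
    rw [QuadraticMap.polar_smul_right, smul_eq_mul]
  · intro v hv
    have h1 : ∃ y, QuadraticMap.polar Q v y ≠ 0 := by
      by_contra hcon
      push Not at hcon
      exact hv (hQ v hcon)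
    obtain ⟨y, hy⟩ := h1
    exact ⟨⟨y, by rwa [QuadraticMap.polar_comm]⟩, y, hy⟩

/-- the data of an element `C` -/
def HasC (F : Type) [Field F] [Fintype F] (m : ℕ) (S : Set ℕ) : Prop :=
  ∃ C : GL (Fin m ⊕ Fin m) F, C ∈ omegaGL ⇑(plusForm m F) ∧ Odd (orderOf C) ∧
      (∃ P : Polynomial F, Odd (finrank F (LinearMap.ker (Matrix.toLin'
        (Polynomial.aeval (C : Matrix (Fin m ⊕ Fin m) (Fin m ⊕ Fin m) F) P))))) ∧ Dims C S

theorem core (hP : S5948Stmt.{0}) {m a e b f N : ℕ} {S : Set ℕ} (hm : a + e = m) (hm' : b + f = m) (he : 1 ≤ e)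
    (hf : 1 ≤ f) (hab : a < b) (ha : m < 2 * a) (h10 : 5 ≤ m) (hpar : Even a ∧ Odd b ∨ Odd a ∧ Even b)
    (hMa : ∃ M, Num (Fintype.card F) (2 * m) (2 * a) M) (hMb : ∃ M, Num (Fintype.card F) (2 * m) (2 * b) M)
    (hN : N ∣ Fintype.card F ^ e + 1) (hNo : Odd N) (hN1 : ∀ j, 1 ≤ j → j < 2 * e → ¬ N ∣ Fintype.card F ^ j - 1)
    (hga : ∀ r : ℕ, r.Prime → r ∣ Nat.gcd (2 * m) (2 * a) → r = 2)
    (hgb : ∀ r : ℕ, r.Prime → r ∣ Nat.gcd (2 * m) (2 * b) → r = 2)
    (hC : HasC F m S) (hS1 : 2 * e ∉ S) (hS2 : 2 * a ∉ S)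
    (hS3 : ∀ d, 0 < d → d ≤ 2 * f → d ∉ S) (hS4 : ∀ d, 2 * b ≤ d → d < 2 * m → d ∉ S) :
    NoTwo (POmega F (quadFormPlus m F)) := by
  obtain ⟨M, hM⟩ := hMa
  obtain ⟨M', hM'⟩ := hMb
  have hc : M.Coprime N := by
    have h1 := hM.prim (2 * e) (by omega) (by omega)
    refine Nat.Coprime.coprime_dvd_right (hN.trans ?_) h1
    have h2 : Fintype.card F ^ (2 * e) - 1 = (Fintype.card F ^ e + 1) * (Fintype.card F ^ e - 1) := by
      have := Nat.sq_sub_sq (Fintype.card F ^ e) 1
      rw [one_pow, ← pow_mul, mul_comm e 2] at this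
      exact this
    rw [h2]
    exact dvd_mul_right _ _
  obtain ⟨A, hA, ⟨i, hAi⟩, dA⟩ := exists_A hm (by omega) (by omega) (by omega) hM hN hNo hN1 hc
  obtain ⟨B, hB, ⟨j, hBj⟩, dB⟩ := exists_B hm' (by omega) (by omega) (by omega) hM'
  obtain ⟨C, hC, hCo, ⟨P, hker⟩, dC⟩ := hC
  have hQ : IsNondegenerateQuadraticForm ⇑(plusForm m F) := isNondeg (sg_plus m).nondeg
  have hne : Nonempty (Fin m ⊕ Fin m) := ⟨Sum.inl ⟨0, by omega⟩⟩
  have og : OgO ⇑(plusForm m F) := fun k H hle hne g hg hn =>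
    Cfsg.Agent.H558.Cov.og_o hP hQ hle hne hg hn
  have key : NoTwo (Omega F ⇑(plusForm m F)) := by
    refine noTwo_of_data hQ og hA hB hC (by omega) (by omega) hpar (by rw [card_ix]; exact hga)
      (by rw [card_ix]; exact hgb) hAi hBj dA dB dC ?_ ?_ ?_ hCo P hker
    · intro d hd0 hd1 h1 h2
      rw [card_ix] at hd1
      simp only [Set.mem_insert_iff, Set.mem_singleton_iff, Set.mem_ofPred_eq] at h1 h2
      omega
    · intro d hd0 hd1 h1 h2
      rw [card_ix] at hd1
      simp only [Set.mem_insert_iff, Set.mem_singleton_iff] at h1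
      rcases h1 with rfl | rfl | rfl | rfl
      · omega
      · exact hS1 h2
      · exact hS2 h2
      · omega
    · intro d hd0 hd1 h1 h2
      rw [card_ix] at hd1
      rw [Set.mem_ofPred_eq] at h1
      rcases h1 with h1 | h1
      · exact hS3 d hd0 h1 h2
      · exact hS4 d h1 hd1 h2
  rw [coe_plusForm] at key
  exact key.of_surjective (QuotientGroup.mk' _) (QuotientGroup.mk'_surjective _)

theorem two_of_dvd {r m a e k : ℕ} (hr : r.Prime) (hm : a + e = m) (he : 2 * e ∣ 2 ^ k)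
    (h : r ∣ Nat.gcd (2 * m) (2 * a)) : r = 2 := by
  have h1 := h.trans (Nat.gcd_dvd_left _ _)
  have h2 := h.trans (Nat.gcd_dvd_right _ _)
  have h3 : r ∣ 2 * e := by
    have h4 := (Nat.dvd_sub h1 h2)
    have h5 : 2 * m - 2 * a = 2 * e := by omega
    rwa [h5] at h4
  exact (Nat.prime_dvd_prime_iff_eq hr Nat.prime_two).1 (hr.dvd_of_dvd_pow (h3.trans he))

theorem hasC_odd {m : ℕ} (hm : Odd m) (h3 : 3 ≤ m) : HasC F m {d | m ∣ d} := by
  obtain ⟨r, hr⟩ := exists_ppd (q := Fintype.card F) Fintype.one_lt_card h3 (by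
    rintro ⟨-, rfl⟩
    exact absurd hm (by decide))
  exact exists_C1 hm h3 hr

theorem hasC_even {m c : ℕ} (hm : c + 3 = m) (hc : Odd c) (h3 : 5 ≤ c) :
    HasC F m {d | ∃ s t : ℕ, s ≤ 2 ∧ t ≤ 2 ∧ d = c * s + 3 * t} := by
  obtain ⟨r, hr⟩ := exists_ppd (q := Fintype.card F) (k := c) Fintype.one_lt_card (by omega) (by
    rintro ⟨-, rfl⟩
    exact absurd hc (by decide))
  obtain ⟨s, hs⟩ := exists_ppd (q := Fintype.card F) (k := 3) Fintype.one_lt_card le_rfl (by
    rintro ⟨-, h⟩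
    exact absurd h (by decide))
  exact exists_C2 hm (by omega) le_rfl hc hr hs (by omega)

theorem hasC_six (hq : 3 ≤ Fintype.card F) : HasC F 6 {d | 3 ∣ d} := by
  obtain ⟨r, hr⟩ := exists_ppd (q := Fintype.card F) (k := 3) Fintype.one_lt_card le_rfl (by
    rintro ⟨-, h⟩
    exact absurd h (by decide))
  have hr3 := hr.two_lt le_rfl
  set q := Fintype.card F with hqd
  have hN : q ^ 3 - 1 = (q - 1) * (q ^ 2 + q + 1) := by
    obtain ⟨k, hk⟩ : ∃ k, q = k + 1 := ⟨q - 1, by omega⟩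
    rw [hk]
    have h1 : (k + 1) ^ 3 = 1 + k * ((k + 1) ^ 2 + (k + 1) + 1) := by ring
    rw [h1, Nat.add_sub_cancel_left, Nat.add_sub_cancel]
  have hrN : r ∣ q ^ 2 + q + 1 := by
    have h1 := (hr.iff 3).2 dvd_rfl
    rw [hN] at h1
    refine (hr.prime.dvd_mul.1 h1).resolve_left fun h2 => ?_
    have h3 := (hr.iff 1).1 (by rwa [pow_one])
    exact absurd h3 (by decide)
  have hodd : Odd (q ^ 2 + q + 1) := by
    have h1 : Even (q * (q + 1)) := Nat.even_mul_succ_self q
    have h2 : q ^ 2 + q + 1 = q * (q + 1) + 1 := by ring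
    rw [h2]
    exact h1.add_one
  have hlt : q + 3 < q ^ 2 + q + 1 := by nlinarith
  refine exists_C3 (N := q ^ 2 + q + 1) (j := 2) (m := 6) (c := 3) rfl le_rfl (by decide) hr
    (by rw [hN]; exact dvd_mul_left _ _) hodd hrN (fun h => ?_) ?_ ?_
  · have := Nat.le_of_dvd (by norm_num) h
    omega
  · intro i hi h
    have h0 := h.symm.dvd
    interval_cases i
    · rw [pow_zero] at h
      have h1 := Nat.ModEq.eq_of_lt_of_lt h (by omega) (by omega)
      omega
    · rw [pow_one] at h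
      have h1 := Nat.ModEq.eq_of_lt_of_lt h (by omega) (by omega)
      omega
    · have h2 : 2 + (q ^ 2 + q + 1) ≡ q ^ 2 [MOD q ^ 2 + q + 1] := by
        have h3 : 2 + (q ^ 2 + q + 1) ≡ 2 + 0 [MOD q ^ 2 + q + 1] := Nat.ModEq.add_left 2 (by
          exact (Nat.modEq_zero_iff_dvd.2 dvd_rfl))
        exact h3.trans h.symm
      have h4 := (Nat.modEq_iff_dvd' (by omega : q ^ 2 ≤ 2 + (q ^ 2 + q + 1))).1 h2.symm
      have h5 : 2 + (q ^ 2 + q + 1) - q ^ 2 = q + 3 := by omega
      rw [h5] at h4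
      have h6 := Nat.le_of_dvd (by omega) h4
      omega
  · intro i hi h
    interval_cases i
    · have := Nat.le_of_dvd (by positivity) h
      rw [pow_zero] at this
      omega
    · have := Nat.le_of_dvd (by positivity) h
      rw [pow_one] at this
      omega
    · have h4 : q ^ 2 + q + 1 ∣ (q ^ 2 + q + 1) - (q ^ 2 + 2) := Nat.dvd_sub dvd_rfl h
      have h5 : (q ^ 2 + q + 1) - (q ^ 2 + 2) = q - 1 := by omega
      rw [h5] at h4
      have h6 := Nat.le_of_dvd (by omega) h4
      omega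

theorem hasC_ten (hq : Fintype.card F = 2) : HasC F 10 {d | 5 ∣ d} := by
  have hr : Ppd (Fintype.card F) 5 31 := by
    obtain ⟨r, hr⟩ := exists_ppd (q := Fintype.card F) (k := 5) Fintype.one_lt_card (by norm_num) (by
      rintro ⟨-, h⟩
      exact absurd h (by decide))
    have h1 := (hr.iff 5).2 dvd_rfl
    rw [hq] at h1
    have h2 : r = 31 := (Nat.prime_dvd_prime_iff_eq hr.prime (by norm_num)).1 (by simpa using h1)
    rwa [← h2]
  refine exists_C3 (N := 31) (j := 3) (m := 10) (c := 5) rfl (by norm_num) (by decide) hr (by rw [hq]; norm_num)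
    (by decide) dvd_rfl (by norm_num) ?_ ?_
  · rw [hq]; decide
  · rw [hq]; decide

/-- **COV-OPLUS.** -/
theorem noTwo_plus (hP : S5948Stmt.{0}) {m : ℕ} (hm : 5 ≤ m) (h2 : Fintype.card F = 2 → 9 ≤ m)
    (h5 : m = 5 → 7 ≤ Fintype.card F) : NoTwo (POmega F (quadFormPlus m F)) := by
  have hq : 2 ≤ Fintype.card F := Fintype.one_lt_card
  have hpp : IsPrimePow (Fintype.card F) := Fintype.isPrimePow_card_of_field
  by_cases hx : Fintype.card F = 2 ∧ m = 10
  · obtain ⟨hq2, rfl⟩ := hx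
    refine core hP (a := 7) (e := 3) (b := 8) (f := 2) (N := 9) rfl rfl (by norm_num) (by norm_num) (by norm_num)
      (by norm_num) (by norm_num) (Or.inr ⟨by decide, by decide⟩)
      (H906.Cov.exists_num hpp (by norm_num) (by norm_num) (by norm_num) (by norm_num) (by norm_num))
      (H906.Cov.exists_num hpp (by norm_num) (by norm_num) (by norm_num) (by norm_num) (by norm_num))
      (by rw [hq2]; norm_num) (by decide) ?_ ?_ ?_ (hasC_ten hq2) ?_ ?_ ?_ ?_
    · intro j hj hj6
      rw [hq2]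
      interval_cases j <;> decide
    · intro r hr h
      exact (Nat.prime_dvd_prime_iff_eq hr Nat.prime_two).1 (by simpa using h)
    · intro r hr h
      exact two_of_dvd (k := 2) hr (a := 8) (e := 2) rfl (by norm_num) h
    · rw [Set.mem_ofPred_eq]; norm_num
    · rw [Set.mem_ofPred_eq]; norm_num
    · intro d h0 h1
      rw [Set.mem_ofPred_eq]
      omega
    · intro d h0 h1
      rw [Set.mem_ofPred_eq]
      omega
  by_cases hx11 : Fintype.card F = 2 ∧ m = 11
  · obtain ⟨hq2, rfl⟩ := hx11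
    refine core hP (a := 7) (e := 4) (b := 8) (f := 3) (N := 17) rfl rfl (by norm_num) (by norm_num) (by norm_num)
      (by norm_num) (by norm_num) (Or.inr ⟨by decide, by decide⟩)
      (H906.Cov.exists_num hpp (by norm_num) (by norm_num) (by norm_num) (by norm_num) (by norm_num))
      (H906.Cov.exists_num hpp (by norm_num) (by norm_num) (by norm_num) (by norm_num) (by norm_num))
      (by rw [hq2]; norm_num) (by decide) ?_ ?_ ?_ (hasC_odd (by decide) (by norm_num)) ?_ ?_ ?_ ?_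
    · intro j hj hj6
      rw [hq2]
      interval_cases j <;> decide
    · intro r hr h
      exact (Nat.prime_dvd_prime_iff_eq hr Nat.prime_two).1 (by simpa using h)
    · intro r hr h
      exact (Nat.prime_dvd_prime_iff_eq hr Nat.prime_two).1 (by simpa using h)
    · rw [Set.mem_ofPred_eq]; norm_num
    · rw [Set.mem_ofPred_eq]; norm_num
    · intro d h0 h1
      rw [Set.mem_ofPred_eq]
      omega
    · intro d h0 h1
      rw [Set.mem_ofPred_eq]
      omega
  by_cases hx12 : Fintype.card F = 2 ∧ m = 12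
  · obtain ⟨hq2, rfl⟩ := hx12
    refine core hP (a := 8) (e := 4) (b := 11) (f := 1) (N := 17) rfl rfl (by norm_num) (by norm_num) (by norm_num)
      (by norm_num) (by norm_num) (Or.inl ⟨by decide, by decide⟩)
      (H906.Cov.exists_num hpp (by norm_num) (by norm_num) (by norm_num) (by norm_num) (by norm_num))
      (H906.Cov.exists_num hpp (by norm_num) (by norm_num) (by norm_num) (by norm_num) (by norm_num))
      (by rw [hq2]; norm_num) (by decide) ?_ ?_ ?_ (hasC_even (c := 9) rfl (by decide) (by norm_num)) ?_ ?_ ?_ ?_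
    · intro j hj hj6
      rw [hq2]
      interval_cases j <;> decide
    · intro r hr h
      exact two_of_dvd (k := 3) hr (a := 8) (e := 4) rfl (by norm_num) h
    · intro r hr h
      exact two_of_dvd (k := 1) hr (a := 11) (e := 1) rfl (by norm_num) h
    · rintro ⟨s, t, hs, ht, h⟩
      omega
    · rintro ⟨s, t, hs, ht, h⟩
      omega
    · rintro d h0 h1 ⟨s, t, hs, ht, h⟩
      omega
    · rintro d h0 h1 ⟨s, t, hs, ht, h⟩
      omega
  -- the general case
  obtain ⟨l, hl⟩ := exists_ppd (q := Fintype.card F) (k := 4) hq (by norm_num) (by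
    rintro ⟨-, h⟩
    exact absurd h (by decide))
  have hl2 := hl.two_lt (by norm_num)
  have hld : l ∣ Fintype.card F ^ 2 + 1 := by
    have h1 := (hl.iff 4).2 dvd_rfl
    have h3 : Fintype.card F ^ 4 - 1 = (Fintype.card F ^ 2 + 1) * (Fintype.card F ^ 2 - 1) := by
      have := Nat.sq_sub_sq (Fintype.card F ^ 2) 1
      rw [one_pow, ← pow_mul] at this
      exact this
    rw [h3] at h1
    refine (hl.prime.dvd_mul.1 h1).resolve_right fun h4 => ?_
    exact absurd ((hl.iff 2).1 h4) (by decide)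
  have hparity : Even (m - 2) ∧ Odd (m - 1) ∨ Odd (m - 2) ∧ Even (m - 1) := by
    rcases Nat.even_or_odd m with ⟨k, hk⟩ | ⟨k, hk⟩
    · left; exact ⟨⟨k - 1, by omega⟩, ⟨k - 1, by omega⟩⟩
    · right; exact ⟨⟨k - 1, by omega⟩, ⟨k, by omega⟩⟩
  have hC : ∃ S : Set ℕ, HasC F m S ∧ 2 * 2 ∉ S ∧ 2 * (m - 2) ∉ S ∧ (∀ d, 0 < d → d ≤ 2 * 1 → d ∉ S) ∧
      ∀ d, 2 * (m - 1) ≤ d → d < 2 * m → d ∉ S := by
    rcases Nat.even_or_odd m with hme | hmo
    · by_cases h6 : m = 6
      · subst h6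
        refine ⟨_, hasC_six (by omega), ?_, ?_, ?_, ?_⟩
        · rw [Set.mem_ofPred_eq]; norm_num
        · rw [Set.mem_ofPred_eq]; norm_num
        · intro d h0 h1
          rw [Set.mem_ofPred_eq]
          omega
        · intro d h0 h1
          rw [Set.mem_ofPred_eq]
          omega
      · obtain ⟨k, hk⟩ := hme
        refine ⟨_, hasC_even (c := m - 3) (by omega) ⟨k - 2, by omega⟩ (by omega), ?_, ?_, ?_, ?_⟩
        · rintro ⟨s, t, hs, ht, h⟩
          interval_cases s <;> omega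
        · rintro ⟨s, t, hs, ht, h⟩
          interval_cases s <;> omega
        · rintro d h0 h1 ⟨s, t, hs, ht, h⟩
          interval_cases s <;> omega
        · rintro d h0 h1 ⟨s, t, hs, ht, h⟩
          interval_cases s <;> omega
    · refine ⟨_, hasC_odd hmo (by omega), ?_, ?_, ?_, ?_⟩
      · rw [Set.mem_ofPred_eq]
        intro h
        have := Nat.le_of_dvd (by norm_num) h
        omega
      · rw [Set.mem_ofPred_eq]
        rintro ⟨k, hk⟩
        rcases Nat.lt_or_ge k 2 with h | h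
        · interval_cases k <;> omega
        · have : m * 2 ≤ m * k := Nat.mul_le_mul_left m h
          omega
      · intro d h0 h1
        rw [Set.mem_ofPred_eq]
        intro h
        have := Nat.le_of_dvd h0 h
        omega
      · intro d h0 h1
        rw [Set.mem_ofPred_eq]
        rintro ⟨k, hk⟩
        rcases Nat.lt_or_ge k 2 with h | h
        · interval_cases k <;> omega
        · have : m * 2 ≤ m * k := Nat.mul_le_mul_left m h
          omega
  obtain ⟨S, hCS, hS1, hS2, hS3, hS4⟩ := hC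
  refine core hP (a := m - 2) (e := 2) (b := m - 1) (f := 1) (N := l) (by omega) (by omega) (by norm_num) le_rfl
    (by omega) (by omega) hm hparity
    (H906.Cov.exists_num hpp (by omega) (by omega) (by omega) (fun h => by have := h2 h; omega) (fun h => by
      have := h5 (by omega); omega))
    (H906.Cov.exists_num hpp (by omega) (by omega) (by omega) (fun h => by have := h2 h; omega) (fun h => by omega))
    hld (ppd_odd hl (by norm_num)) ?_ ?_ ?_ hCS hS1 hS2 hS3 hS4
  · intro j hj hj4 hd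
    have := Nat.le_of_dvd hj ((hl.iff j).1 hd)
    omega
  · intro r hr h
    exact two_of_dvd (k := 2) hr (a := m - 2) (e := 2) (by omega) (by norm_num) h
  · intro r hr h
    exact two_of_dvd (k := 1) hr (a := m - 1) (e := 1) (by omega) (by norm_num) h

end Cfsg.Agent.H383.Cov
end

-- part: H680/Cov/SU6/Geo
section
prune_inst 0x4002024342000000000000000001c42ea000490000b000088c00a4006802c0080400620b43001000082000440380040001000000040000004000000000100800000400092080104000000800000000000000000000000000000000000010000000000000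
set_option linter.all false
open scoped Cfsg.Agent.FastGrp

-- part: H680/Cov/SU6/Kill
section
/-!
# S2499, `SU_6(q)`: geometric subgroups containing an element with a fixed space of dimension three (helper680)

* `kill_ext` : `g, h` normalise a field of matrices of degree `r`, the order of `g` is prime to `r`, `h` is trivial on
  `[V, g]`: then `r` divides the dimension of `C_V(h)`.
* `subfield_fix` : an element of prime order `w` of a subfield group: `C_V(g) = 0`, or `g = 1`, if `|F₀|` has order `n` modulo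
  `w` (`n` the dimension).
* `tensor_fix` : an element of prime order `w` (`w` prime to `|GL_{n₁}|`) of a tensor product subgroup: `n₁` divides the
  dimension of `C_V(g)`.
* `decomp_inv` : an element of prime order `w > t` fixes the members of a decomposition.
-/

set_option autoImplicit false
set_option linter.unusedSectionVars false

namespace Cfsg.Agent.H680.Cov.SU6

open Cfsg Cfsg.Geo Module Cfsg.Agent.H951 Cfsg.Agent.H251.GeoU Cfsg.Agent.H251.GeoCard
open scoped Matrix MatrixGroups Kronecker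

universe u

section

variable {ι : Type} [Fintype ι] [DecidableEq ι] {F : Type u} [Field F] [Fintype F]

/-- (C3) -/
theorem kill_ext [Nonempty ι] {r : ℕ} {K : Subalgebra F (Matrix ι ι F)} (hK : IsFieldSubalgebra r K)
    {g h : GL ι F} (hg : g ∈ subalgebraNormalizer K) (hh : h ∈ subalgebraNormalizer K)
    (hco : Nat.Coprime (orderOf g) r) (hcm : cm (Matrix.toLin' (g : Matrix ι ι F)) ≠ ⊥)
    (htriv : ∀ v ∈ cm (Matrix.toLin' (g : Matrix ι ι F)), (h : Matrix ι ι F) *ᵥ v = v) :
    r ∣ finrank F (fx (Matrix.toLin' (h : Matrix ι ι F))) := by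
  have hcom : ∀ a ∈ K, (g : Matrix ι ι F) * a = a * g := H906.Cov.commute_of_coprime hK hg hco
  -- `[V, g]` is invariant under the field
  have hinv : ∀ a ∈ K, ∀ v ∈ cm (Matrix.toLin' (g : Matrix ι ι F)), a *ᵥ v ∈ cm (Matrix.toLin' (g : Matrix ι ι F)) := by
    intro a ha v hv
    obtain ⟨w, rfl⟩ := mem_cm.1 hv
    refine mem_cm.2 ⟨a *ᵥ w, ?_⟩
    rw [Matrix.toLin'_apply, Matrix.toLin'_apply, Matrix.mulVec_mulVec, hcom a ha, ← Matrix.mulVec_mulVec,
      ← Matrix.mulVec_sub]
  obtain ⟨v₀, hv₀, hv₀'⟩ := (Submodule.ne_bot_iff _).1 hcm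
  have hinvh : ((h⁻¹ : GL ι F) : Matrix ι ι F) * (h : Matrix ι ι F) = 1 := by
    rw [← Units.val_mul, inv_mul_cancel, Units.val_one]
  have hh' : ∀ v ∈ cm (Matrix.toLin' (g : Matrix ι ι F)), ((h⁻¹ : GL ι F) : Matrix ι ι F) *ᵥ v = v := by
    intro v hv
    conv_lhs => rw [← htriv v hv]
    rw [Matrix.mulVec_mulVec, hinvh, Matrix.one_mulVec]
  -- `h` commutes with the field
  have hcomh : ∀ a ∈ K, (h : Matrix ι ι F) * a = a * h := by
    intro a ha
    set d : Matrix ι ι F := (h : Matrix ι ι F) * a * ((h⁻¹ : GL ι F) : Matrix ι ι F) - a with hd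
    have hdK : d ∈ K := K.sub_mem ((hh a).1 ha) ha
    have hdv : d *ᵥ v₀ = 0 := by
      rw [hd, Matrix.sub_mulVec, ← Matrix.mulVec_mulVec, hh' v₀ hv₀, ← Matrix.mulVec_mulVec,
        htriv _ (hinv a ha v₀ hv₀), sub_self]
    have hd0 : d = 0 := by
      by_contra hne
      obtain ⟨y, hy, hdy⟩ := hK.inv d hdK hne
      apply hv₀'
      have h1 : y * d = 1 := by rw [hK.comm y hy d hdK, hdy]
      rw [← Matrix.one_mulVec v₀, ← h1, ← Matrix.mulVec_mulVec, hdv, Matrix.mulVec_zero]
    have h2 : (h : Matrix ι ι F) * a * ((h⁻¹ : GL ι F) : Matrix ι ι F) = a := sub_eq_zero.1 hd0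
    calc (h : Matrix ι ι F) * a = (h : Matrix ι ι F) * a * (((h⁻¹ : GL ι F) : Matrix ι ι F) * (h : Matrix ι ι F)) := by
          rw [hinvh, mul_one]
      _ = a * h := by rw [← mul_assoc, h2]
  apply H906.Cov.dvd_finrank_of_invariant hK
  intro a ha v hv
  rw [mem_fx, Matrix.toLin'_apply] at hv ⊢
  rw [Matrix.mulVec_mulVec, hcomh a ha, ← Matrix.mulVec_mulVec, hv]

/-- an element of prime order `w`, `w` prime to `N`: an exponent which is `1` modulo `w` and `0` modulo `N` -/
theorem exists_exp {w N : ℕ} (hw : w.Prime) (hN : ¬ w ∣ N) :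
    ∃ k : ℕ, N ∣ k ∧ ∀ {G : Type u} [Group G] (g : G), g ^ w = 1 → g ^ k = g := by
  have hco : Nat.Coprime N w := ((Nat.Prime.coprime_iff_not_dvd hw).2 hN).symm
  obtain ⟨k, h1, h2⟩ := Nat.chineseRemainder hco 0 1
  refine ⟨k, (Nat.modEq_zero_iff_dvd).1 h1, fun {G} _ g hg => ?_⟩
  have h3 : k % w = 1 := by
    have h4 : k % w = 1 % w := h2
    rw [h4, Nat.mod_eq_of_lt hw.one_lt]
  rw [← Nat.mod_add_div k w, h3, pow_add, pow_one, pow_mul, hg, one_pow, mul_one]

theorem toLin_pow_one {g : GL ι F} {w : ℕ} (hg : g ^ w = 1) : Matrix.toLin' (g : Matrix ι ι F) ^ w = 1 := by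
  rw [← toLin_pow, hg, Units.val_one, Matrix.toLin'_one]
  rfl

theorem fx_eq_bot_iff {g : GL ι F} : fx (Matrix.toLin' (g : Matrix ι ι F)) = ⊥ ↔
    ((g : Matrix ι ι F) - 1).det ≠ 0 := by
  rw [Ne, ← Matrix.exists_mulVec_eq_zero_iff]
  constructor
  · rintro h ⟨v, hv, h1⟩
    apply hv
    have h2 : v ∈ fx (Matrix.toLin' (g : Matrix ι ι F)) := by
      rw [mem_fx, Matrix.toLin'_apply]
      rwa [Matrix.sub_mulVec, Matrix.one_mulVec, sub_eq_zero] at h1
    rwa [h, Submodule.mem_bot] at h2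
  · intro h
    rw [Submodule.eq_bot_iff]
    intro v hv
    by_contra hv0
    apply h
    refine ⟨v, hv0, ?_⟩
    rw [mem_fx, Matrix.toLin'_apply] at hv
    rw [Matrix.sub_mulVec, Matrix.one_mulVec, hv, sub_self]

theorem eq_one_of_fx_top {g : GL ι F} (h : fx (Matrix.toLin' (g : Matrix ι ι F)) = ⊤) : g = 1 := by
  apply Units.ext
  apply Matrix.toLin'.injective
  apply LinearMap.ext
  intro v
  have h1 : v ∈ fx (Matrix.toLin' (g : Matrix ι ι F)) := by rw [h]; trivial
  rw [mem_fx.1 h1, Units.val_one, Matrix.toLin'_one]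
  rfl

/-- (C5) -/
theorem subfield_fix {F₀ : Subfield F} {P g : GL ι F} {w : ℕ} (hg : g ∈ subfieldSubgroup F₀ P) (hw : w.Prime)
    (hgw : g ^ w = 1) (hF : ¬ w ∣ Nat.card F) (hF1 : ¬ w ∣ Nat.card F - 1)
    (ho : orderOf ((Nat.card F₀ : ℕ) : ZMod w) = Fintype.card ι) :
    fx (Matrix.toLin' (g : Matrix ι ι F)) = ⊥ ∨ g = 1 := by
  classical
  have hfw := Fact.mk hw
  obtain ⟨g', hg', rfl⟩ := hg
  have hg'w : g' ^ w = 1 := by
    have h1 : (MulAut.conj P).toMonoidHom (g' ^ w) = 1 := by rw [map_pow]; exact hgw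
    have h2 : (MulAut.conj P) (g' ^ w) = 1 := h1
    rwa [map_eq_one_iff _ (MulAut.conj P).injective] at h2
  -- a product of a matrix over `F₀` and a scalar
  obtain ⟨m, hm, z, hz, hmz⟩ : ∃ m ∈ (Matrix.GeneralLinearGroup.map (n := ι) (F₀.subtype : F₀ →+* F)).range,
      ∃ z ∈ scalars ι F, g' = m * z := by
    have hn : (scalars ι F).Normal := ⟨fun z hz x => by
      rw [mul_assoc, scalars_central hz, mul_inv_cancel_left]
      exact hz⟩
    obtain ⟨m, hm, z, hz, h⟩ := Subgroup.mem_sup_of_normal_right.1 hg'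
    exact ⟨m, hm, z, hz, h.symm⟩
  obtain ⟨k, hk, hkg⟩ := exists_exp.{u} hw hF1
  have hzk : z ^ k = 1 := by
    obtain ⟨j, hj⟩ := hk
    have h1 : z ^ (Nat.card F - 1) = 1 := by
      have h2 : orderOf z ∣ Nat.card F - 1 := by
        rw [← Subgroup.orderOf_mk z hz]
        exact (orderOf_dvd_natCard _).trans card_scalars_dvd
      exact orderOf_dvd_iff_pow_eq_one.1 h2
    rw [hj, pow_mul, h1, one_pow]
  have hgm : g' = m ^ k := by
    have h1 := hkg g' hg'w
    have hc : Commute m z := (scalars_central hz m).symm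
    rw [hmz, hc.mul_pow, hzk, mul_one] at h1
    rw [hmz, ← h1]
  obtain ⟨m₀, rfl⟩ := hm
  rw [← map_pow] at hgm
  set m₁ := m₀ ^ k with hm₁
  have hinj : Function.Injective (Matrix.GeneralLinearGroup.map (n := ι) (F₀.subtype : F₀ →+* F)) := by
    intro a b hab
    apply Units.ext
    have h1 := congrArg (fun x : GL ι F => (x : Matrix ι ι F)) hab
    ext i j
    have h2 := congrFun (congrFun h1 i) j
    exact h2
  have hm₁w : m₁ ^ w = 1 := by
    apply hinj
    rw [map_pow, ← hgm, hg'w, map_one]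
  have hfin : Fintype F₀ := Fintype.ofFinite F₀
  have hc0 : Nat.card F₀ = Fintype.card F₀ := Nat.card_eq_fintype_card
  have hr : (w : F₀) ≠ 0 := by
    intro h1
    have h2 : (w : F) = 0 := by
      have h3 := congrArg (F₀.subtype : F₀ →+* F) h1
      rwa [map_natCast, map_zero] at h3
    obtain ⟨p, hp⟩ := CharP.exists F
    obtain ⟨j, hpp, hj⟩ := FiniteField.card F p
    have h4 : p ∣ w := (CharP.cast_eq_zero_iff F p w).1 h2
    have h5 : p = w := (Nat.prime_dvd_prime_iff_eq hpp hw).1 h4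
    apply hF
    rw [Nat.card_eq_fintype_card, hj, h5]
    exact dvd_pow_self w j.ne_zero
  obtain ⟨b, hb⟩ := H950.exists_finrank_eq (F := F₀) hr (toLin_pow_one hm₁w) (W := ⊤) (fun _ _ => trivial)
  rw [top_inf_eq, finrank_top, finrank_fintype_fun_eq_card, ← hc0, ho] at hb
  have hconj : ∀ x : GL ι F, (((MulAut.conj P).toMonoidHom x : GL ι F) : Matrix ι ι F) - 1 =
      (P : Matrix ι ι F) * ((x : Matrix ι ι F) - 1) * ((P⁻¹ : GL ι F) : Matrix ι ι F) := by
    intro x
    have h1 : ((MulAut.conj P).toMonoidHom x : GL ι F) = P * x * P⁻¹ := rfl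
    rw [h1, Units.val_mul, Units.val_mul, mul_sub, sub_mul, mul_one, ← Units.val_mul P P⁻¹, mul_inv_cancel, Units.val_one]
  rcases Nat.eq_zero_or_pos b with h0 | h0
  · right
    rw [h0, mul_zero, add_zero] at hb
    have h1 : fx (Matrix.toLin' (m₁ : Matrix ι ι F₀)) = ⊤ := by
      apply Submodule.eq_top_of_finrank_eq
      rw [← hb, finrank_fintype_fun_eq_card]
    have h2 := eq_one_of_fx_top h1
    rw [hgm, h2, map_one, map_one]
  · left
    have h1 : finrank F₀ (fx (Matrix.toLin' (m₁ : Matrix ι ι F₀))) = 0 := by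
      have h2 : Fintype.card ι ≤ Fintype.card ι * b := Nat.le_mul_of_pos_right _ h0
      omega
    rw [Submodule.finrank_eq_zero, fx_eq_bot_iff] at h1
    rw [fx_eq_bot_iff, hconj, Matrix.det_mul, Matrix.det_mul]
    have h3 : ((g' : Matrix ι ι F) - 1).det = F₀.subtype (((m₁ : Matrix ι ι F₀) - 1).det) := by
      rw [RingHom.map_det, hgm]
      congr 1
      ext i j
      simp only [Matrix.sub_apply, RingHom.mapMatrix_apply, Matrix.map_apply, map_sub]
      congr 1
      rw [Matrix.one_apply, Matrix.one_apply]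
      split_ifs <;> simp only [_root_.Subfield.subtype_apply, _root_.OneMemClass.coe_one, _root_.ZeroMemClass.coe_zero]
    have h4 : (P : Matrix ι ι F).det ≠ 0 := (Matrix.isUnit_iff_isUnit_det _).1 P.isUnit |>.ne_zero
    have h5 : ((P⁻¹ : GL ι F) : Matrix ι ι F).det ≠ 0 := (Matrix.isUnit_iff_isUnit_det _).1 (P⁻¹).isUnit |>.ne_zero
    refine mul_ne_zero (mul_ne_zero h4 ?_) h5
    rw [h3]
    intro h6
    apply h1
    exact (map_eq_zero_iff _ (F₀.subtype).injective).1 h6

/-- (C2) -/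
theorem decomp_inv {t m w : ℕ} {D : Fin t → Submodule F (ι → F)} (hD : IsMDecomposition m D) (hw : w.Prime)
    (ht : t < w) {g : GL ι F} (hg : g ∈ decompositionStabilizer D) (hgw : g ^ w = 1) (i : Fin t) :
    g ∈ subspaceStabilizer (D i) := by
  classical
  have hinj : Function.Injective D := by
    intro i j hij
    by_contra hne
    have h1 := hD.indep.pairwiseDisjoint hne
    have h2 : D i = ⊥ := by
      have h3 : Disjoint (D i) (D j) := h1
      rw [← hij, disjoint_self] at h3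
      exact h3
    have h3 := hD.finrank_eq i
    rw [h2, finrank_bot] at h3
    have := hD.pos
    omega
  obtain ⟨σ, hσ⟩ := hg
  have hpow : ∀ (k : ℕ) (i : Fin t), (D i).map (Matrix.toLin' ((g ^ k : GL ι F) : Matrix ι ι F)) = D ((σ ^ k) i) := by
    intro k
    induction k with
    | zero => intro i; simp only [_root_.pow_zero, _root_.Units.val_one, _root_.Matrix.toLin'_one, _root_.Submodule.map_id, _root_.Equiv.Perm.coe_one, _root_.id_eq]
    | succ k ih =>
      intro i
      rw [pow_succ, Units.val_mul, Matrix.toLin'_mul, Submodule.map_comp, hσ, ih, pow_succ, Equiv.Perm.mul_apply]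
  have h1 : σ ^ w = 1 := by
    ext i
    have h2 := hpow w i
    rw [hgw, Units.val_one, Matrix.toLin'_one, Submodule.map_id] at h2
    rw [← hinj h2, Equiv.Perm.one_apply]
  have h2 : σ = 1 := by
    have h3 : orderOf σ ∣ w := orderOf_dvd_of_pow_eq_one h1
    rcases (Nat.dvd_prime hw).1 h3 with h4 | h4
    · exact orderOf_eq_one_iff.1 h4
    · exfalso
      have h5 : w ∣ t.factorial := by
        rw [← h4]
        have h6 := orderOf_dvd_card (x := σ)
        rwa [Fintype.card_perm, Fintype.card_fin] at h6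
      have := (hw.dvd_factorial).1 h5
      omega
  have h3 : (D i).map (Matrix.toLin' (g : Matrix ι ι F)) = D i := by rw [hσ, h2, Equiv.Perm.one_apply]
  rw [H918.mem_subspaceStabilizer]
  intro v
  constructor
  · intro hv
    rw [← h3]
    exact ⟨v, hv, rfl⟩
  · intro hv
    rw [← h3] at hv
    obtain ⟨u, hu, hu'⟩ := hv
    have h4 : (g : Matrix ι ι F) *ᵥ u = (g : Matrix ι ι F) *ᵥ v := hu'
    have h5 : u = v := by
      have h6 := congrArg (fun x => ((g⁻¹ : GL ι F) : Matrix ι ι F) *ᵥ x) h4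
      simp only [Matrix.mulVec_mulVec, ← Units.val_mul, inv_mul_cancel, Units.val_one, Matrix.one_mulVec] at h6
      exact h6
    rw [← h5]
    exact hu

end

section

variable {F : Type u} [Field F] [Fintype F]

/-- the fixed space of `1 ⊗ b` -/
theorem finrank_kron {n₁ n₂ : ℕ} (b : Matrix (Fin n₂) (Fin n₂) F) :
    finrank F (fx (Matrix.toLin' ((1 : Matrix (Fin n₁) (Fin n₁) F) ⊗ₖ b))) = n₁ * finrank F (fx (Matrix.toLin' b)) := by
  have key : ∀ (v : Fin n₁ × Fin n₂ → F) (i : Fin n₁) (j : Fin n₂),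
      (((1 : Matrix (Fin n₁) (Fin n₁) F) ⊗ₖ b) *ᵥ v) (i, j) = (b *ᵥ fun j' => v (i, j')) j := by
    intro v i j
    have h1 : ∀ x : Fin n₁ × Fin n₂, ((1 : Matrix (Fin n₁) (Fin n₁) F) ⊗ₖ b) (i, j) x =
        (1 : Matrix (Fin n₁) (Fin n₁) F) i x.1 * b j x.2 := fun x => rfl
    have h2 : (((1 : Matrix (Fin n₁) (Fin n₁) F) ⊗ₖ b) *ᵥ v) (i, j) =
        ∑ x : Fin n₁ × Fin n₂, (1 : Matrix (Fin n₁) (Fin n₁) F) i x.1 * b j x.2 * v x := by
      simp only [Matrix.mulVec, dotProduct, h1]
    rw [h2, Fintype.sum_prod_type, Finset.sum_eq_single i]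
    · simp only [Matrix.mulVec, dotProduct, Matrix.one_apply_eq, one_mul]
    · intro i' _ hi
      apply Finset.sum_eq_zero
      intro x _
      show (1 : Matrix (Fin n₁) (Fin n₁) F) i i' * b j x * v (i', x) = 0
      rw [Matrix.one_apply_ne (Ne.symm hi), zero_mul, zero_mul]
    · intro h; exact absurd (Finset.mem_univ _) h
  let e : fx (Matrix.toLin' ((1 : Matrix (Fin n₁) (Fin n₁) F) ⊗ₖ b)) ≃ₗ[F] (Fin n₁ → fx (Matrix.toLin' b)) :=
    { toFun := fun v i => ⟨fun j => v.1 (i, j), by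
        rw [mem_fx, Matrix.toLin'_apply]
        funext j
        rw [← key]
        have h1 := mem_fx.1 v.2
        rw [Matrix.toLin'_apply] at h1
        rw [h1]⟩
      map_add' := fun v w => rfl
      map_smul' := fun c v => rfl
      invFun := fun f => ⟨fun ij => (f ij.1).1 ij.2, by
        rw [mem_fx, Matrix.toLin'_apply]
        funext ij
        obtain ⟨i, j⟩ := ij
        rw [key]
        have h1 := mem_fx.1 (f i).2
        rw [Matrix.toLin'_apply] at h1
        exact congrFun h1 j⟩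
      left_inv := fun v => rfl
      right_inv := fun f => rfl }
  rw [e.finrank_eq, finrank_pi_fintype]
  simp only [_root_.Finset.sum_const, _root_.Finset.card_univ, _root_.Fintype.card_fin, _root_.smul_eq_mul]

/-- (C4) -/
theorem tensor_fix {n n₁ n₂ : ℕ} {e : Fin n ≃ Fin n₁ × Fin n₂} {P g : GL (Fin n) F} {w : ℕ}
    (hg : g ∈ tensorProductSubgroup n₁ n₂ e P) (hw : w.Prime) (hgw : g ^ w = 1)
    (h1 : ¬ w ∣ Nat.card (GL (Fin n₁) F)) : n₁ ∣ finrank F (fx (Matrix.toLin' (g : Matrix (Fin n) (Fin n) F))) := by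
  classical
  obtain ⟨g', ⟨k, hk, rfl⟩, rfl⟩ := hg
  obtain ⟨a, b, hab⟩ := hk
  obtain ⟨j, hj, hjg⟩ := exists_exp.{u} hw h1
  have hkw : k ^ w = 1 := by
    have h2 : (MulAut.conj P).toMonoidHom ((glReindex e.symm).toMonoidHom (k ^ w)) = 1 := by
      rw [map_pow, map_pow]; exact hgw
    have h3 : (MulAut.conj P) ((glReindex e.symm) (k ^ w)) = 1 := h2
    rw [map_eq_one_iff _ (MulAut.conj P).injective] at h3
    rwa [map_eq_one_iff _ (glReindex e.symm).injective] at h3
  have hkj : k ^ j = k := hjg k hkw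
  have haj : a ^ j = 1 := by
    obtain ⟨i, hi⟩ := hj
    rw [hi, pow_mul, pow_card_eq_one', one_pow]
  have hkm : (k : Matrix (Fin n₁ × Fin n₂) (Fin n₁ × Fin n₂) F) =
      (1 : Matrix (Fin n₁) (Fin n₁) F) ⊗ₖ ((b ^ j : GL (Fin n₂) F) : Matrix (Fin n₂) (Fin n₂) F) := by
    have h2 : ∀ i : ℕ, ((k ^ i : GL (Fin n₁ × Fin n₂) F) : Matrix (Fin n₁ × Fin n₂) (Fin n₁ × Fin n₂) F) =
        ((a ^ i : GL (Fin n₁) F) : Matrix (Fin n₁) (Fin n₁) F) ⊗ₖ ((b ^ i : GL (Fin n₂) F) : Matrix (Fin n₂) (Fin n₂) F) := by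
      intro i
      induction i with
      | zero => simp
      | succ i ih =>
        rw [pow_succ, Units.val_mul, ih, hab, pow_succ, pow_succ, Units.val_mul, Units.val_mul,
          Matrix.mul_kronecker_mul]
    rw [← hkj, h2, haj, Units.val_one]
  -- transport of the fixed space
  have hP : ∀ x : GL (Fin n) F, finrank F (fx (Matrix.toLin' (((MulAut.conj P).toMonoidHom x : GL (Fin n) F) :
      Matrix (Fin n) (Fin n) F))) = finrank F (fx (Matrix.toLin' (x : Matrix (Fin n) (Fin n) F))) := by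
    intro x
    let E : (Fin n → F) ≃ₗ[F] (Fin n → F) := Matrix.toLin'OfInv (M := (P : Matrix (Fin n) (Fin n) F))
      (M' := ((P⁻¹ : GL (Fin n) F) : Matrix (Fin n) (Fin n) F)) (by rw [← Units.val_mul, mul_inv_cancel, Units.val_one])
      (by rw [← Units.val_mul, inv_mul_cancel, Units.val_one])
    have hE : Matrix.toLin' (((MulAut.conj P).toMonoidHom x : GL (Fin n) F) : Matrix (Fin n) (Fin n) F) =
        tr E (Matrix.toLin' (x : Matrix (Fin n) (Fin n) F)) := by
      apply LinearMap.ext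
      intro v
      rw [tr_apply]
      have h2 : ((MulAut.conj P).toMonoidHom x : GL (Fin n) F) = P * x * P⁻¹ := rfl
      rw [h2, Units.val_mul, Units.val_mul, Matrix.toLin'_apply, Matrix.toLin'_apply, ← Matrix.mulVec_mulVec,
        ← Matrix.mulVec_mulVec]
      rfl
    rw [hE, finrank_fx_tr]
  rw [hP]
  have hR : finrank F (fx (Matrix.toLin' (((glReindex e.symm).toMonoidHom k : GL (Fin n) F) : Matrix (Fin n) (Fin n) F))) =
      finrank F (fx (Matrix.toLin' (k : Matrix (Fin n₁ × Fin n₂) (Fin n₁ × Fin n₂) F))) := by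
    let E : (Fin n → F) ≃ₗ[F] (Fin n₁ × Fin n₂ → F) := LinearEquiv.funCongrLeft F F e.symm
    have hE : Matrix.toLin' (((glReindex e.symm).toMonoidHom k : GL (Fin n) F) : Matrix (Fin n) (Fin n) F) =
        tr E (Matrix.toLin' (k : Matrix (Fin n₁ × Fin n₂) (Fin n₁ × Fin n₂) F)) := by
      apply LinearMap.ext
      intro v
      rw [tr_apply]
      funext i
      have h2 : (((glReindex e.symm).toMonoidHom k : GL (Fin n) F) : Matrix (Fin n) (Fin n) F) =
          (k : Matrix (Fin n₁ × Fin n₂) (Fin n₁ × Fin n₂) F).submatrix e e := rfl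
      have h3 : (E.symm (Matrix.toLin' (k : Matrix (Fin n₁ × Fin n₂) (Fin n₁ × Fin n₂) F) (E v))) i =
          (Matrix.toLin' (k : Matrix (Fin n₁ × Fin n₂) (Fin n₁ × Fin n₂) F) (E v)) (e i) := rfl
      rw [h3, h2, Matrix.toLin'_apply, Matrix.toLin'_apply]
      simp only [Matrix.mulVec, dotProduct, Matrix.submatrix_apply]
      have h4 : ∀ y, (E v) y = v (e.symm y) := fun y => rfl
      simp only [h4]
      rw [← Equiv.sum_comp e]
      simp only [_root_.Equiv.symm_apply_apply]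
    rw [hE, finrank_fx_tr]
  rw [hR, hkm, finrank_kron]
  exact dvd_mul_right _ _

end

end Cfsg.Agent.H680.Cov.SU6
end

-- part: H680/Cov/SU6/Geo
section
/-!
# S2499, `SU_6(q)`: geometric subgroups containing `b` and an element of prime order `v`, `-q` of order six modulo `v`
(helper680)
-/

set_option autoImplicit false
set_option linter.unusedSectionVars false

namespace Cfsg.Agent.H680.Cov.SU6

open Cfsg Cfsg.Geo Module Cfsg.Agent.H951 Cfsg.Agent.H251.GeoU Cfsg.Agent.H251.GeoCard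
open scoped Matrix MatrixGroups

universe u

variable {F : Type u} [Field F] [Fintype F] {q : ℕ}

/-- `-q` of order three modulo `w`, `w ≠ 2`: `q` has order six -/
theorem ord_six {w : ℕ} (hw : w.Prime) (hw2 : w ≠ 2) (h : orderOf (-(q : ZMod w)) = 3) :
    orderOf ((q : ℕ) : ZMod w) = 6 := by
  have hfw := Fact.mk hw
  have h3 : (-(q : ZMod w)) ^ 3 = 1 := by rw [← h, pow_orderOf_eq_one]
  have hq3 : ((q : ℕ) : ZMod w) ^ 3 = -1 := by
    have h4 : (-(q : ZMod w)) ^ 3 = -((q : ZMod w) ^ 3) := by ring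
    rw [h4] at h3
    rw [← h3, neg_neg]
  have hne : (-1 : ZMod w) ≠ 1 := by
    have := Fact.mk (lt_of_le_of_ne hw.two_le (Ne.symm hw2))
    exact ZMod.neg_one_ne_one
  apply orderOf_eq_of_pow_and_pow_div_prime (by norm_num)
  · rw [show (6 : ℕ) = 3 * 2 by norm_num, pow_mul, hq3]; ring
  · intro p hp hp6
    have : p = 2 ∨ p = 3 := by
      have h5 : p ∣ 2 * 3 := hp6
      rcases hp.dvd_mul.1 h5 with h6 | h6
      · exact Or.inl ((Nat.prime_dvd_prime_iff_eq hp Nat.prime_two).1 h6)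
      · exact Or.inr ((Nat.prime_dvd_prime_iff_eq hp Nat.prime_three).1 h6)
    rcases this with rfl | rfl
    · rw [show 6 / 2 = 3 by norm_num, hq3]
      exact hne
    · rw [show 6 / 3 = 2 by norm_num]
      intro h7
      have h8 : (-(q : ZMod w)) ^ 2 = 1 := by rw [neg_sq]; exact h7
      have h9 := orderOf_dvd_of_pow_eq_one h8
      rw [h] at h9
      omega

/-- **Geometric subgroups.** -/
theorem geo_bc (hF : Fintype.card F = q ^ 2) {p f v w : ℕ} (hp : p.Prime) (hq : q = p ^ f) (hf : 1 ≤ f)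
    (hv : v.Prime) (hv7 : 7 ≤ v) (hvo : orderOf (-(q : ZMod v)) = 6)
    (hw : w.Prime) (hw7 : 7 ≤ w) (hwiff : ∀ k, w ∣ p ^ k - 1 ↔ 2 * 3 * f ∣ k) (hwo : orderOf (-(q : ZMod w)) = 3)
    {X : Subgroup (GL (Fin (3 + 3)) F)} (hX : InUnitaryClass (3 + 3) F q X) (hvX : v ∣ Nat.card X)
    {g h : GL (Fin (3 + 3)) F} (hg : g ∈ X) (hh : h ∈ X) (hgI : Isom (hermForm (3 + 3) F q) (Matrix.toLin' g.1))
    (hgw : g ^ w = 1)
    (hgf : finrank F (fx (Matrix.toLin' g.1)) = 3) (hhf : finrank F (fx (Matrix.toLin' h.1)) = 4)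
    (hcm : ∀ v ∈ cm (Matrix.toLin' g.1), (h : Matrix (Fin (3 + 3)) (Fin (3 + 3)) F) *ᵥ v = v) : False := by
  classical
  have hfv := Fact.mk hv
  have hfw := Fact.mk hw
  have hvq := not_dvd_of_ord hv hvo (by norm_num)
  have hrv := natCast_ne hF hv hvq
  have hwq := not_dvd_of_ord hw hwo (by norm_num)
  have hrw := natCast_ne hF hw hwq
  have hwF := not_dvd_card hF hw hwq
  have hv3 : orderOf ((q ^ 2 : ℕ) : ZMod v) = 3 := ord_sq_even hvo ⟨3, rfl⟩
  have hw3 : orderOf ((q ^ 2 : ℕ) : ZMod w) = 3 := ord_sq_odd hwo ⟨1, rfl⟩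
  have hqq := Nat.one_le_pow 2 q (LieClassical.HermBasic.q_pos hF)
  have hscal : ¬ w ∣ Nat.card F - 1 := by
    intro h1
    have h2 : _root_.Cfsg.Agent.H251.GeoCard.Div w (q ^ 2) 1 := div_one le_rfl (by rwa [← nat_card_eq hF])
    have h3 := ord_le_of_div hqq h2
    omega
  have hne : Nonempty (Fin (3 + 3)) := ⟨⟨0, by norm_num⟩⟩
  have hgl : Matrix.toLin' g.1 ^ w = 1 := toLin_pow_one hgw
  have hgfc := finrank_fx_cm hrw hgl
  rw [hgf, finrank_fintype_fun_eq_card, Fintype.card_fin] at hgfc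
  have hndf : Nd (hermForm (3 + 3) F q) (fx (Matrix.toLin' g.1)) :=
    hgI.nd_fx (H950.frm_herm hF (3 + 3)) hrw hgl (H950.nd_top hF (3 + 3))
  have hndc : Nd (hermForm (3 + 3) F q) (cm (Matrix.toLin' g.1)) :=
    hgI.nd_cm (H950.frm_herm hF (3 + 3)) hrw hgl (H950.nd_top hF (3 + 3))
  have hcmne : cm (Matrix.toLin' g.1) ≠ ⊥ := by
    intro h1
    rw [h1, finrank_bot] at hgfc
    omega
  -- the element of order `v`
  have hC : ∀ Y : Subgroup (GL (Fin (3 + 3)) F), v ∣ Nat.card (Y ⊓ Cfsg.GU (3 + 3) F q : Subgroup _) →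
      ∃ c ∈ Y, Isom (hermForm (3 + 3) F q) (Matrix.toLin' c.1) ∧ c ^ v = 1 ∧ fx (Matrix.toLin' c.1) = ⊥ := by
    intro Y hY
    obtain ⟨c, hc, hci, hcs, hc1⟩ := _root_.Cfsg.Agent.H251.GeoU.exists_elt hv hY inf_le_right
    have hfix := fix_le hF hvq hci hcs hc1
    rw [hvo] at hfix
    refine ⟨c, hc.1, hci, ?_, ?_⟩
    · apply Units.ext
      apply Matrix.toLin'.injective
      rw [toLin_pow, hcs, Units.val_one, Matrix.toLin'_one]
      rfl
    · rw [← Submodule.finrank_eq_zero (R := F)]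
      omega
  have hC3 : ∀ (c : GL (Fin (3 + 3)) F) (W : Submodule F (Fin (3 + 3) → F)), c ^ v = 1 →
      fx (Matrix.toLin' c.1) = ⊥ → c ∈ subspaceStabilizer W → W ≠ ⊥ → 3 ≤ finrank F W := by
    intro c W hcv hcf hcW hW
    by_contra hlt
    apply hW
    rw [eq_bot_iff, ← hcf]
    apply le_fx hrv (toLin_pow_one hcv) (inv_of_mem hcW)
    rw [hF, hv3]
    omega
  -- three-dimensional spaces fixed by `g`
  have hG : ∀ W : Submodule F (Fin (3 + 3) → F), g ∈ subspaceStabilizer W → finrank F W = 3 →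
      Nd (hermForm (3 + 3) F q) W := by
    intro W hgW hW
    obtain ⟨b, hb⟩ := H950.exists_finrank_eq hrw hgl (inv_of_mem hgW)
    rw [hF, hw3, hW] at hb
    rcases Nat.eq_zero_or_pos b with rfl | hb0
    · have h1 : W ⊓ fx (Matrix.toLin' g.1) = W := Submodule.eq_of_le_of_finrank_eq inf_le_left (by omega)
      have h2 : W ≤ fx (Matrix.toLin' g.1) := inf_eq_left.1 h1
      have h3 : W = fx (Matrix.toLin' g.1) := Submodule.eq_of_le_of_finrank_eq h2 (by omega)
      rw [h3]
      exact hndf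
    · have h1 : finrank F ↥(W ⊓ fx (Matrix.toLin' g.1)) = 0 := by omega
      rw [Submodule.finrank_eq_zero] at h1
      have h2 := le_cm_of_inf_fx hrw hgl (inv_of_mem hgW) h1
      have h3 : W = cm (Matrix.toLin' g.1) := Submodule.eq_of_le_of_finrank_eq h2 (by omega)
      rw [h3]
      exact hndc
  have hGts : ∀ W : Submodule F (Fin (3 + 3) → F), g ∈ subspaceStabilizer W → finrank F W = 3 →
      ¬ IsTotallySingularFor (hermForm (3 + 3) F q) W := by
    intro W hgW hW hts
    have hnd := hG W hgW hW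
    have hW0 : W ≠ ⊥ := by
      rintro rfl
      rw [finrank_bot] at hW
      omega
    obtain ⟨x, hx, hx0⟩ := (Submodule.ne_bot_iff _).1 hW0
    obtain ⟨y, hy, hxy⟩ := hnd x hx hx0
    exact hxy (hts x hx y hy)
  have hsub2 : ∀ (F₀ : Subfield F) (P : GL (Fin (3 + 3)) F), Fintype.card F = Nat.card F₀ ^ 2 →
      g ∈ subfieldSubgroup F₀ P → False := by
    intro F₀ P hc hgX
    have h1 : Nat.card F₀ = q := Nat.pow_left_injective (by norm_num : (2 : ℕ) ≠ 0)
      (show Nat.card F₀ ^ 2 = q ^ 2 by rw [← hF]; exact hc.symm)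
    rcases subfield_fix hgX hw hgw hwF hscal (by rw [h1, ord_six hw (by omega) hwo, Fintype.card_fin]) with h2 | h2
    · rw [h2, finrank_bot] at hgf
      omega
    · apply hcmne
      rw [eq_bot_iff]
      intro x hx
      obtain ⟨y, rfl⟩ := mem_cm.1 hx
      rw [h2, Units.val_one, Matrix.toLin'_one]
      simp only [_root_.Nat.reduceAdd, _root_.LinearMap.id_coe, _root_.id_eq, _root_.sub_self, _root_.ZeroMemClass.zero_mem]
  have hdec : ∀ {t k : ℕ} {D : Fin t → Submodule F (Fin (3 + 3) → F)}, IsMDecomposition k D → 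
      v ∣ Nat.card (decompositionStabilizer D ⊓ Cfsg.GU (3 + 3) F q : Subgroup _) → g ∈ decompositionStabilizer D →
      ((∃ i, IsTotallySingularFor (hermForm (3 + 3) F q) (D i)) ∨
        ∃ i, IsNondegenerateOn (hermForm (3 + 3) F q) (D i)) → False := by
    intro t k D hD hvD hgD hor
    have htk : t * k = 3 + 3 := by rw [H918.decomp_card hD, Fintype.card_fin]
    have ht2 := hD.two_le
    have hk := hD.pos
    have ht6 : t ≤ 6 := by
      have : t ≤ t * k := Nat.le_mul_of_pos_right _ hk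
      omega
    obtain ⟨c, hc, hci, hcv, hcf⟩ := hC _ hvD
    have hk3 : k ≤ 3 := by
      have : 2 * k ≤ t * k := Nat.mul_le_mul_right _ ht2
      omega
    have hD0 : ∀ i, D i ≠ ⊥ := by
      intro i h1
      have := hD.finrank_eq i
      rw [h1, finrank_bot] at this
      omega
    rcases hor with ⟨i, hi⟩ | ⟨i, hi⟩
    · have h1 := hC3 c (D i) hcv hcf (decomp_inv hD hv (by omega) hc hcv i) (hD0 i)
      rw [hD.finrank_eq i] at h1
      exact hGts (D i) (decomp_inv hD hw (by omega) hgD hgw i) (by rw [hD.finrank_eq i]; omega) hi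
    · have hcD := decomp_inv hD hv (by omega) hc hcv i
      have h1 := hC3 c (D i) hcv hcf hcD (hD0 i)
      rw [hD.finrank_eq i] at h1
      have hnd : Nd (hermForm (3 + 3) F q) (D i) := by
        intro u hu hu0
        obtain ⟨v, hv, hv1⟩ := (hi u hu hu0).2
        exact ⟨v, hv, hv1⟩
      have h2 := H950.ord_neg_dvd hF hvq hci (toLin_pow_one hcv) (inv_of_mem hcD) hnd (by rw [hcf, inf_bot_eq])
      rw [hvo, hD.finrank_eq i] at h2
      have := Nat.le_of_dvd hk h2
      omega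
  rcases hX with hM | hM | hM | hM
  · rcases hM with hM | hM | hM | hM | hM | hM | hM | hM
    · -- totally singular subspaces
      obtain ⟨W, hW0, hW, rfl⟩ := hM
      obtain ⟨c, hc, hci, hcv, hcf⟩ := hC _ hvX
      have h1 := hC3 c W hcv hcf hc hW0
      have h2 : 2 * finrank F W ≤ 3 + 3 := by
        have h3 := (H950.frm_herm hF (3 + 3)).two_mul_finrank_le (H950.nd_top hF (3 + 3)) le_top (W := W) hW
        rwa [finrank_top, finrank_fintype_fun_eq_card, Fintype.card_fin] at h3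
      exact hGts W hg.1 (by omega) hW
    · -- nondegenerate subspaces
      obtain ⟨W, hW0, hW, hW2, rfl⟩ := hM
      obtain ⟨c, hc, hci, hcv, hcf⟩ := hC _ hvX
      have h1 := hC3 c W hcv hcf hc hW0
      omega
    · obtain ⟨t, k, D, hD, rfl⟩ := hM
      have ht := hD.decomp.two_le
      exact hdec hD.decomp hvX hg.1 (Or.inr ⟨⟨0, by omega⟩, hD.nondegenerate _⟩)
    · obtain ⟨k, D, hk, hD, hts, rfl⟩ := hM
      exact hdec hD hvX hg.1 (Or.inl ⟨0, hts 0⟩)
    · obtain ⟨F₀, r, P, hr, hro, hc, -, rfl⟩ := hM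
      have hr3 : 3 ≤ r := by
        have := hr.two_le
        obtain ⟨k, hk⟩ := hro
        omega
      have hwX : w ∣ Nat.card (subfieldSubgroup F₀ P) := by
        have h1 : orderOf g = w := by
          apply orderOf_eq_prime hgw
          rintro rfl
          apply hcmne
          rw [eq_bot_iff]
          intro x hx
          obtain ⟨y, rfl⟩ := mem_cm.1 hx
          rw [Units.val_one, Matrix.toLin'_one]
          simp only [_root_.Nat.reduceAdd, _root_.LinearMap.id_coe, _root_.id_eq, _root_.sub_self, _root_.ZeroMemClass.zero_mem]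
        rw [← h1, ← Subgroup.orderOf_mk g hg.1]
        exact orderOf_dvd_natCard _
      rcases subfield hw hwF hwX with h1 | h1
      · exact hscal h1
      · rw [Fintype.card_fin] at h1
        obtain ⟨i, hi1, hi2, hi3⟩ := h1
        rw [hF, hq, ← pow_mul] at hc
        obtain ⟨a, -, ha⟩ := (Nat.dvd_prime_pow hp).1 (show Nat.card F₀ ∣ p ^ (f * 2) by
          rw [hc]; exact dvd_pow_self _ (by omega))
        rw [ha, ← pow_mul] at hc hi3
        have har : f * 2 = a * r := Nat.pow_right_injective hp.two_le hc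
        have h4 := (hwiff _).1 hi3
        have ha0 : 0 < a := by
          rcases Nat.eq_zero_or_pos a with rfl | h5
          · omega
          · exact h5
        have h5 : a * (3 * r) ∣ a * i := by
          have : 2 * 3 * f = a * (3 * r) := by
            calc 2 * 3 * f = 3 * (f * 2) := by ring
              _ = a * (3 * r) := by rw [har]; ring
          rwa [this] at h4
        have h6 := Nat.le_of_dvd (by omega) (Nat.dvd_of_mul_dvd_mul_left ha0 h5)
        omega
    · obtain ⟨F₀, P, -, hc, -, rfl⟩ := hM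
      exact hsub2 F₀ P hc hg.1
    · obtain ⟨F₀, P, ζ, -, hc, -, -, -, -, rfl⟩ := hM
      exact hsub2 F₀ P hc hg.1
    · obtain ⟨r, R, p', e, k, hR, habs, -, -, -, hc, rfl⟩ := hM
      have ht : H920.IsType r k R := by
        rcases hc with ⟨h1, h2, -, h3⟩ | ⟨h1, -, h2, h3⟩
        · exact Or.inl ⟨h1, h2, h3⟩
        · exact Or.inr ⟨h1, h2, h3⟩
      have hcard := H920.card_of_type hR habs ht
      rw [Fintype.card_fin] at hcard
      have h2 : 2 ∣ r ^ k := by rw [← hcard]; norm_num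
      have h3 : 3 ∣ r ^ k := by rw [← hcard]; norm_num
      have h4 := (Nat.prime_dvd_prime_iff_eq Nat.prime_two hR.prime).1 (Nat.prime_two.dvd_of_dvd_pow h2)
      have h5 := (Nat.prime_dvd_prime_iff_eq Nat.prime_three hR.prime).1 (Nat.prime_three.dvd_of_dvd_pow h3)
      omega
  · obtain ⟨r, K, hr, hro, hK, -, rfl⟩ := hM
    have hr3 : r = 3 := by
      have h1 := H912.finrank_dvd_of_fieldSub hK
      rw [Fintype.card_fin] at h1
      have h2 := Nat.le_of_dvd (by norm_num) h1
      obtain ⟨k, hk⟩ := hro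
      have h3 := hr.two_le
      have : r = 3 ∨ r = 5 := by omega
      rcases this with h4 | h4
      · exact h4
      · rw [h4] at h1
        omega
    have hco : Nat.Coprime (orderOf g) r := by
      apply Nat.Coprime.coprime_dvd_left (orderOf_dvd_of_pow_eq_one hgw)
      rw [hr3, Nat.Prime.coprime_iff_not_dvd hw]
      intro h1
      have := Nat.le_of_dvd (by norm_num) h1
      omega
    have h1 := kill_ext hK hg.1 hh.1 hco hcmne hcm
    rw [hhf, hr3] at h1
    omega
  · obtain ⟨n₁, n₂, e, P, f₁, f₂, h2, hlt, -, -, -, rfl⟩ := hM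
    have hcard : 3 + 3 = n₁ * n₂ := by
      have := Fintype.card_congr e
      simpa only [_root_.Nat.reduceAdd, _root_.Fintype.card_fin, _root_.Fintype.card_prod] using this
    have hn1 : n₁ = 2 := by
      have h3 : n₁ * (n₁ + 1) ≤ n₁ * n₂ := Nat.mul_le_mul_left _ hlt
      by_contra h4
      have h5 : 3 ≤ n₁ := by omega
      have h6 : 3 * 4 ≤ n₁ * (n₁ + 1) := Nat.mul_le_mul h5 (by omega)
      omega
    have h1 := tensor_fix hg.1 hw hgw (by
      rw [hn1]
      intro h3
      have h4 := div_of_dvd_card_fin hw hwF h3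
      rw [nat_card_eq hF] at h4
      have h5 := ord_le_of_div hqq h4
      omega)
    rw [hgf, hn1] at h1
    omega
  · obtain ⟨k, t, e, P, f₁, hk, ht, -, -, -, rfl⟩ := hM
    have hcard : 3 + 3 = k ^ t := by
      have := Fintype.card_congr e
      simpa only [_root_.Nat.reduceAdd, _root_.Fintype.card_fin, _root_.Fintype.card_pi, _root_.Finset.prod_const, _root_.Finset.card_univ] using this
    have h4 : k ^ 2 ≤ k ^ t := Nat.pow_le_pow_right (by omega) ht
    have h5 : 3 * 3 ≤ k ^ 2 := by rw [pow_two]; exact Nat.mul_le_mul hk hk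
    omega

end Cfsg.Agent.H680.Cov.SU6
end
end

-- part: H680/Cov/SU6/Main
section
prune_inst 0x400240450000000000000020000000000000400000004000ce100000008c000800020000c0001014000800000000000030000004000000000200000000100000000020091080104000086800000000000000000000000000000000000010000000000000
set_option linter.all false
open scoped Cfsg.Agent.FastGrp

-- part: H680/Cov/SU6/Elt
section
/-!
# S2499, `SU_6(q)`: the element `b = x + y`, `x` of prime order `w` in `SU_3(q)` (`-q` has order three modulo `w`), `y`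
a regular unipotent element of `SU_3(q)` (helper680)
-/

set_option autoImplicit false
set_option linter.unusedSectionVars false

namespace Cfsg.Agent.H680.Cov.SU6

open Cfsg Cfsg.Geo Module Cfsg.Agent.H951 Cfsg.Agent.H251.GeoU Cfsg.Agent.H251.GeoCard
open Cfsg.Agent.LieClassical.HermBasic Cfsg.Agent.LieClassical.HermSiegel
open Cfsg.Agent.H729.CovU (L L_isom L_injective L_blk_inl L_blk_inr eq_zero_of_fix exists_orderOf)
open Cfsg.Agent.H494.PSURow (blk blk_injective eq_one_left eq_one_right)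
open scoped Matrix MatrixGroups

variable {F : Type*} [Field F] [Fintype F] {q : ℕ}

theorem L_act {n : ℕ} (x : SU n F q) (v : Fin n → F) : L n F q x v = act x v := by
  rw [H729.CovU.L_apply]; rfl

theorem mat_pow {n : ℕ} (x : SU n F q) (k : ℕ) : mat (x ^ k) = mat x ^ k := by
  induction k with
  | zero => rw [pow_zero, pow_zero, mat_one]
  | succ k ih => rw [pow_succ, pow_succ, mat_mul, ih]

theorem unipotent_pow {n : ℕ} (hn : 0 < n) (h3 : 3 ≤ Fintype.card F) (M : Matrix (Fin n) (Fin n) F)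
    (h : (M - 1) * (M - 1) * (M - 1) = 0) : M ^ Fintype.card F = 1 := by
  obtain ⟨p, hp⟩ := CharP.exists F
  obtain ⟨k, hprime, hcard⟩ := FiniteField.card F p
  have := Fact.mk hprime
  have : Nonempty (Fin n) := ⟨⟨0, hn⟩⟩
  have hc : (M - 1) ^ Fintype.card F = M ^ Fintype.card F - 1 := by
    rw [hcard]
    have := sub_pow_char_pow_of_commute (R := Matrix (Fin n) (Fin n) F) (p := p) (n := (k : ℕ))
      (Commute.one_right M)
    rw [this, one_pow]
  have h0 : (M - 1) ^ Fintype.card F = 0 := by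
    obtain ⟨m, hm⟩ := Nat.exists_eq_add_of_le h3
    rw [hm, pow_add, pow_succ, pow_two, h, zero_mul]
  rw [h0] at hc
  exact sub_eq_zero.1 hc.symm

theorem siegel_pow {n : ℕ} (hn : 0 < n) (hF : Fintype.card F = q ^ 2) {u w : Fin n → F} {μ : F}
    (h : IsSiegel q u w μ) : (siegel hF u w μ h) ^ Fintype.card F = 1 := by
  have h2 := two_le hF
  apply mat_injective
  rw [mat_pow, mat_one]
  apply unipotent_pow hn (by rw [hF]; nlinarith)
  show (siegelMat q u w μ - 1) * (siegelMat q u w μ - 1) * (siegelMat q u w μ - 1) = 0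
  apply Matrix.ext_of_mulVec_single
  intro i
  set e : Fin n → F := Pi.single i 1
  have key : ∀ v : Fin n → F, (siegelMat q u w μ - 1) *ᵥ v =
      hermForm n F q v u • w + (μ * hermForm n F q v u - hermForm n F q v w) • u := by
    intro v
    rw [Matrix.sub_mulVec, siegelMat_mulVec, Matrix.one_mulVec]
    abel
  rw [Matrix.zero_mulVec, ← Matrix.mulVec_mulVec, ← Matrix.mulVec_mulVec, key e, key, key]
  simp only [herm_add_left, herm_smul_left, h.iso, h.orth, h.orth' hF, mul_zero, add_zero,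
    zero_sub, zero_smul, zero_add, sub_self]

/-- a regular unipotent element of `SU_3(q)` -/
theorem exists_y (hF : Fintype.card F = q ^ 2) : ∃ y : SU 3 F q, y ^ Fintype.card F = 1 ∧
    finrank F (fx (L 3 F q y)) = 1 ∧ ∀ (v : Fin 3 → F) (c : F), v ≠ 0 → L 3 F q y v = c • v → hermForm 3 F q v v = 0 := by
  obtain ⟨ζ, hζ⟩ := exists_norm_eq hF (c := -1) (by rw [neg_pow_q hF, one_pow])
  obtain ⟨μ, hμ⟩ := exists_trace_eq hF (c := -1) (by rw [neg_pow_q hF, one_pow])
  have hq := q_pos hF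
  have hq0 : (0 : F) ^ q = 0 := zero_pow_q hF
  have hu : ∀ v : Fin 3 → F, hermForm 3 F q v ![1, ζ, 0] = v 0 + v 1 * ζ ^ q := by
    intro v
    rw [herm_def, Fin.sum_univ_three]
    simp [hq.ne']
  have hw : ∀ v : Fin 3 → F, hermForm 3 F q v ![0, 0, 1] = v 2 := by
    intro v
    rw [herm_def, Fin.sum_univ_three]
    simp [hq.ne']
  have hS : IsSiegel q (![1, ζ, 0] : Fin 3 → F) ![0, 0, 1] μ := by
    refine ⟨?_, ?_, ?_⟩
    · rw [hu]
      change (1 : F) + ζ * ζ ^ q = 0
      rw [hζ]; ring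
    · rw [hu]
      change (0 : F) + 0 * ζ ^ q = 0
      ring
    · rw [hw]
      change μ + μ ^ q + 1 = 0
      rw [hμ]; ring
  have hfix : ∀ v : Fin 3 → F, L 3 F q (siegel hF _ _ μ hS) v = v → ∃ c : F, v = c • ![1, ζ, 0] := by
    intro v hv
    rw [L_act, act_siegel, add_assoc, add_eq_left, hu, hw] at hv
    have h0 := congrFun hv 0
    have h2 := congrFun hv 2
    simp only [Pi.add_apply, Pi.smul_apply, Pi.zero_apply, smul_eq_mul, Matrix.cons_val_zero, Matrix.cons_val,
      mul_zero, mul_one, zero_add, add_zero] at h0 h2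
    rw [h2, mul_zero, zero_sub, neg_eq_zero] at h0
    refine ⟨v 0, ?_⟩
    funext i
    fin_cases i
    · simp
    · have : v 1 = v 0 * ζ := by linear_combination (-ζ) * h2 + v 1 * hζ
      simpa using this
    · simpa using h0
  refine ⟨siegel hF _ _ μ hS, siegel_pow (by norm_num) hF hS, ?_, ?_⟩
  · have h1 : fx (L 3 F q (siegel hF _ _ μ hS)) = Submodule.span F {![1, ζ, 0]} := by
      apply le_antisymm
      · intro v hv
        obtain ⟨c, hc⟩ := hfix v (mem_fx.1 hv)
        rw [hc]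
        exact Submodule.smul_mem _ _ (Submodule.mem_span_singleton_self _)
      · rw [Submodule.span_singleton_le_iff_mem, mem_fx, L_act]
        exact act_siegel_self hF hS
    rw [h1, finrank_span_singleton]
    intro h
    have := congrFun h 0
    simp at this
  · intro v c hv0 hv
    have hv' := hv
    rw [L_act, act_siegel] at hv'
    have key : ∀ z : Fin 3 → F, hermForm 3 F q z ![1, ζ, 0] = hermForm 3 F q z ![1, ζ, 0] := fun _ => rfl
    have ha := congrArg (fun z => hermForm 3 F q z ![1, ζ, 0]) hv'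
    simp only [herm_add_left, herm_smul_left, hS.iso, hS.orth, mul_zero, add_zero] at ha
    have hb := congrArg (fun z => hermForm 3 F q z ![0, 0, 1]) hv'
    have hc1 : c = 1 := by
      by_contra hc
      have hc' : (1 - c) ≠ 0 := sub_ne_zero.2 (Ne.symm hc)
      have ha0 : hermForm 3 F q v ![1, ζ, 0] = 0 := by
        have : (1 - c) * hermForm 3 F q v ![1, ζ, 0] = 0 := by linear_combination ha
        exact (mul_eq_zero.1 this).resolve_left hc'
      simp only [herm_add_left, herm_smul_left, hS.orth' hF, ha0, mul_zero, add_zero, zero_mul] at hb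
      have hb0 : hermForm 3 F q v ![0, 0, 1] = 0 := by
        have : (1 - c) * hermForm 3 F q v ![0, 0, 1] = 0 := by linear_combination hb
        exact (mul_eq_zero.1 this).resolve_left hc'
      rw [ha0, hb0, mul_zero, sub_zero, zero_smul, zero_smul, add_zero, add_zero] at hv'
      apply hv0
      have : (1 - c) • v = 0 := by rw [sub_smul, one_smul, ← hv', sub_self]
      exact (smul_eq_zero.1 this).resolve_left hc'
    rw [hc1, one_smul] at hv
    obtain ⟨k, hk⟩ := hfix v hv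
    rw [hk, herm_smul_left, herm_smul_right, hS.iso, mul_zero, mul_zero]

theorem L_one_fx {n : ℕ} : fx (L n F q 1) = ⊤ := by
  rw [eq_top_iff]
  intro v _
  rw [mem_fx, map_one]
  rfl

/-- the fixed space of a block diagonal element -/
noncomputable def fxBlk {k l : ℕ} (x : SU k F q) (y : SU l F q) :
    fx (L (k + l) F q (blk k l F q (x, y))) ≃ₗ[F] fx (L k F q x) × fx (L l F q y) where
  toFun v := (⟨fun j => v.1 (finSumFinEquiv (.inl j)), by
      rw [mem_fx]
      funext i
      rw [← L_blk_inl x y v.1 i, mem_fx.1 v.2]⟩, ⟨fun j => v.1 (finSumFinEquiv (.inr j)), by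
      rw [mem_fx]
      funext i
      rw [← L_blk_inr x y v.1 i, mem_fx.1 v.2]⟩)
  map_add' v w := rfl
  map_smul' c v := rfl
  invFun p := ⟨fun i => Sum.elim p.1.1 p.2.1 (finSumFinEquiv.symm i), by
    rw [mem_fx]
    funext i
    obtain ⟨j | j, rfl⟩ := finSumFinEquiv.surjective i
    · rw [L_blk_inl]
      simp only [Equiv.symm_apply_apply, Sum.elim_inl]
      exact congrFun (mem_fx.1 p.1.2) j
    · rw [L_blk_inr]
      simp only [Equiv.symm_apply_apply, Sum.elim_inr]
      exact congrFun (mem_fx.1 p.2.2) j⟩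
  left_inv v := by
    apply Subtype.ext
    funext i
    obtain ⟨j | j, rfl⟩ := finSumFinEquiv.surjective i
    · simp
    · simp
  right_inv p := by
    apply Prod.ext
    · apply Subtype.ext
      funext i
      simp
    · apply Subtype.ext
      funext i
      simp

theorem finrank_fx_blk {k l : ℕ} (x : SU k F q) (y : SU l F q) :
    finrank F (fx (L (k + l) F q (blk k l F q (x, y)))) = finrank F (fx (L k F q x)) + finrank F (fx (L l F q y)) := by
  rw [(fxBlk x y).finrank_eq, finrank_prod]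

theorem herm_blk {k m : ℕ} (a b : Fin (k + m) → F) : hermForm (k + m) F q a b =
    hermForm k F q (fun i => a (finSumFinEquiv (.inl i))) (fun i => b (finSumFinEquiv (.inl i))) +
      hermForm m F q (fun i => a (finSumFinEquiv (.inr i))) (fun i => b (finSumFinEquiv (.inr i))) := by
  rw [hermForm, ← Equiv.sum_comp finSumFinEquiv, Fintype.sum_sum_type]
  rfl

/-- the element `b`, and its parts `g`, `h` -/
theorem exists_b (hF : Fintype.card F = q ^ 2) {w : ℕ} (hw : w.Prime) (hwo : orderOf (-(q : ZMod w)) = 3) :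
    ∃ b g h : SU (3 + 3) F q, (∃ i : ℕ, b ^ i = g) ∧ (∃ i : ℕ, b ^ i = h) ∧ g ^ w = 1 ∧
      g ∉ Subgroup.center (SU (3 + 3) F q) ∧ finrank F (fx (L (3 + 3) F q g)) = 3 ∧
      finrank F (fx (L (3 + 3) F q h)) = 4 ∧ (∀ v ∈ cm (L (3 + 3) F q g), L (3 + 3) F q h v = v) ∧
      ∀ v ∈ fx (L (3 + 3) F q g), v ≠ 0 → ∀ c : F, L (3 + 3) F q h v = c • v → hermForm (3 + 3) F q v v = 0 := by
  have hfw := Fact.mk hw
  obtain ⟨y, hy, hyf, hye⟩ := exists_y (q := q) hF
  obtain ⟨x, hx⟩ := exists_orderOf (F := F) hF hw (k := 3) (by norm_num) hwo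
  have hxw : x ^ w = 1 := by rw [← hx, pow_orderOf_eq_one]
  have hx1 : x ≠ 1 := by
    rintro rfl
    rw [orderOf_one] at hx
    exact hw.one_lt.ne hx
  have hwq : ¬ w ∣ q := not_dvd_of_ord hw hwo (by norm_num)
  have hwF : ¬ w ∣ Fintype.card F := by
    rw [← Nat.card_eq_fintype_card]
    exact not_dvd_card hF hw hwq
  have hco : Nat.Coprime w (Fintype.card F) := (Nat.Prime.coprime_iff_not_dvd hw).2 hwF
  have hxfix : finrank F (fx (L 3 F q x)) = 0 := by
    rw [Submodule.finrank_eq_zero, eq_bot_iff]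
    intro v hv
    rw [Submodule.mem_bot]
    exact eq_zero_of_fix hF hw (by norm_num) hwo hxw hx1 (mem_fx.1 hv)
  have hone : finrank F (fx (L 3 F q (1 : SU 3 F q))) = 3 := by
    rw [L_one_fx, finrank_top, finrank_fintype_fun_eq_card, Fintype.card_fin]
  refine ⟨blk 3 3 F q (x, y), blk 3 3 F q (x, 1), blk 3 3 F q (1, y), ?_, ?_, ?_, ?_, ?_, ?_, ?_, ?_⟩
  · obtain ⟨i, hi1, hi2⟩ := Nat.chineseRemainder hco 1 0
    refine ⟨i, ?_⟩
    rw [← map_pow, Prod.pow_mk]
    congr 2
    · have h3 : x ^ i = x ^ 1 := pow_eq_pow_iff_modEq.2 (by rw [hx]; exact hi1)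
      rw [h3, pow_one]
    · obtain ⟨j, hj⟩ := (Nat.modEq_zero_iff_dvd).1 hi2
      rw [hj, pow_mul, hy, one_pow]
  · obtain ⟨i, hi1, hi2⟩ := Nat.chineseRemainder hco 0 1
    refine ⟨i, ?_⟩
    rw [← map_pow, Prod.pow_mk]
    congr 2
    · obtain ⟨j, hj⟩ := (Nat.modEq_zero_iff_dvd).1 hi1
      rw [hj, pow_mul, hxw, one_pow]
    · have h3 : y ^ i = y ^ 1 := pow_eq_pow_iff_modEq.2 (hi2.of_dvd (orderOf_dvd_of_pow_eq_one hy))
      rw [h3, pow_one]
  · rw [← map_pow, Prod.pow_mk, hxw, one_pow]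
    exact map_one _
  · intro h
    exact hx1 (eq_one_left hF (by norm_num) (by norm_num) h)
  · rw [finrank_fx_blk, hxfix, hone]
  · rw [finrank_fx_blk, hyf, hone]
  · intro v hv
    obtain ⟨u, hu⟩ := mem_cm.1 hv
    have hr : (fun j => v (finSumFinEquiv (.inr j))) = (0 : Fin 3 → F) := by
      funext i
      rw [← hu]
      change L (3 + 3) F q (blk 3 3 F q (x, 1)) u (finSumFinEquiv (.inr i)) - u (finSumFinEquiv (.inr i)) = 0
      rw [L_blk_inr, map_one]
      exact sub_self _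
    funext i
    obtain ⟨j | j, rfl⟩ := finSumFinEquiv.surjective i
    · rw [L_blk_inl, map_one]
      rfl
    · rw [L_blk_inr, hr, map_zero]
      exact (congrFun hr j).symm
  · intro v hv hv0 c hc
    have h1 : (fun j => v (finSumFinEquiv (.inl j))) = (0 : Fin 3 → F) := by
      refine eq_zero_of_fix hF hw (by norm_num) hwo hxw hx1 ?_
      funext i
      rw [← L_blk_inl x 1 v i, mem_fx.1 hv]
    have h2 : L 3 F q y (fun j => v (finSumFinEquiv (.inr j))) = c • fun j => v (finSumFinEquiv (.inr j)) := by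
      funext i
      rw [← L_blk_inr 1 y v i, hc]
      rfl
    have h3 : (fun j => v (finSumFinEquiv (.inr j))) ≠ (0 : Fin 3 → F) := by
      intro h3
      apply hv0
      funext i
      obtain ⟨j | j, rfl⟩ := finSumFinEquiv.surjective i
      · exact congrFun h1 j
      · exact congrFun h3 j
    rw [herm_blk, hye _ c h3 h2, h1, herm_zero_left, add_zero]

end Cfsg.Agent.H680.Cov.SU6
end

-- part: H680/Cov/SU6/Main
section
/-!
# S2499: `PSU_6(q)`, `q ≥ 3`, is not the union of the conjugates of two proper subgroups (helper680, task 3951)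

`noTwo_psu_six` : hypothesis `R5803 F q` (the text of S5803).
-/

set_option autoImplicit false
set_option linter.unusedSectionVars false

namespace Cfsg.Agent.H680.Cov.SU6

open Cfsg Cfsg.Geo Module Cfsg.Agent.H951 Cfsg.Agent.H251.GeoU Cfsg.Agent.H251.GeoCard
open Cfsg.Agent.H729.CovU (L L_isom L_injective geo_over_pre)
open Cfsg.Agent.H278.Cov
open scoped Matrix MatrixGroups

universe u

variable {F : Type u} [Field F] [Fintype F] {q : ℕ}

/-- conjugates of coatoms -/
theorem isCoatom_conj {G : Type*} [Group G] {H : Subgroup G} (hH : IsCoatom H) (g : G) :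
    IsCoatom (H.map (MulAut.conj g).toMonoidHom) :=
  (OrderIso.isCoatom_iff (MulEquiv.mapSubgroup (MulAut.conj g)) H).2 hH

theorem card_conj {G : Type*} [Group G] (H : Subgroup G) (g : G) :
    Nat.card (H.map (MulAut.conj g).toMonoidHom) = Nat.card H :=
  (Nat.card_congr (Subgroup.equivMapOfInjective _ _ (MulAut.conj g).injective).toEquiv).symm

/-- it suffices to consider coatoms which contain `b` -/
theorem inc_of_mem {G : Type*} [Group G] [Finite G] {b c : G} {s : ℕ} (hc : orderOf c = s)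
    (h : ∀ H : Subgroup G, IsCoatom H → b ∈ H → ¬ s ∣ Nat.card H) : Inc b c := by
  apply inc_of_coatom
  intro H hH
  by_contra hcon
  push Not at hcon
  obtain ⟨h1, h2⟩ := hcon
  obtain ⟨g, hg⟩ := not_av h1
  have h3 : s ∣ Nat.card H := by
    by_contra h4
    exact h2 (av_of_card (by rwa [hc]))
  refine h (H.map (MulAut.conj g⁻¹).toMonoidHom) (isCoatom_conj hH _) ?_ (by rwa [card_conj])
  refine ⟨g * b * g⁻¹, hg, ?_⟩
  change g⁻¹ * (g * b * g⁻¹) * g⁻¹⁻¹ = b
  group

theorem noTwo_psu_six (hF : Fintype.card F = q ^ 2) (hq3 : 3 ≤ q) (hR : R5803 F q) : NoTwo (PSU 6 F q) := by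
  classical
  obtain ⟨p, f, hp, hf, hq, -⟩ := exists_prime_power hF
  -- the primes
  obtain ⟨u, hu, huiff, hu1, huo⟩ := exists_big (m := 5) hp hf (by norm_num) ⟨2, rfl⟩ (by norm_num)
  obtain ⟨w, hw, hwiff, hw1, hwo⟩ := exists_big (m := 3) hp hf (by norm_num) ⟨1, rfl⟩ (by
    rintro ⟨-, h⟩
    omega)
  rw [← hq] at huo hwo
  obtain ⟨v, hv, hvo, hvf, -, -⟩ := H149.NegPrime.exists_neg_prime (i := 6) hp hq hf (by norm_num) (by norm_num)
  have huf : 11 ≤ u ∧ f < u := by
    have h1 := Nat.le_of_dvd (by have := hu.two_le; omega) hu1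
    omega
  have hwf : 7 ≤ w := by
    have h1 := Nat.le_of_dvd (by have := hw.two_le; omega) hw1
    omega
  have hv7 : 7 ≤ v := by
    have h1 := Nat.le_of_dvd (by have := hv.two_le; omega) (dvd_pred_of_ord hv hvo (by norm_num))
    omega
  have huf' : ¬ u ∣ f := fun h => by
    have := Nat.le_of_dvd (by omega) h
    omega
  have huv : u ≠ v := by rintro rfl; omega
  have huw : u ≠ w := by rintro rfl; omega
  have hvw : v ≠ w := by rintro rfl; omega
  have hqq := Nat.one_le_pow 2 q (LieClassical.HermBasic.q_pos hF)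
  have hscal : ∀ {s m : ℕ}, s.Prime → orderOf (-(q : ZMod s)) = m → 3 ≤ m → ¬ s ∣ Nat.card F - 1 := by
    intro s m hs hm hm3 h1
    have h2 : Div s (q ^ 2) 1 := div_one le_rfl (by rwa [← nat_card_eq hF])
    have h3 := ord_le_of_div hqq h2
    rw [ord_sq, hm] at h3
    have h4 : Nat.gcd m 2 ≤ 2 := Nat.gcd_le_right _ (by norm_num)
    have h5 : 0 < Nat.gcd m 2 := Nat.gcd_pos_of_pos_right _ (by norm_num)
    rcases (show Nat.gcd m 2 = 1 ∨ Nat.gcd m 2 = 2 by omega) with h6 | h6
    · rw [h6, Nat.div_one] at h3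
      omega
    · rw [h6] at h3
      have h7 : 2 ∣ m := by rw [← h6]; exact Nat.gcd_dvd_left _ _
      omega
  have huF := hscal hu huo (by norm_num)
  have hvF := hscal hv hvo (by norm_num)
  have hwF := hscal hw hwo (by norm_num)
  have hfu := Fact.mk hu
  have hfv := Fact.mk hv
  have hfw := Fact.mk hw
  have hwq := not_dvd_of_ord hw hwo (by norm_num)
  have hrw := natCast_ne hF hw hwq
  have hw3 : orderOf ((q ^ 2 : ℕ) : ZMod w) = 3 := ord_sq_odd hwo ⟨1, rfl⟩
  -- the residual class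
  have res_uv : ∀ M : Subgroup (PSU 6 F q), IsCoatom M → InUnitaryResidualClass (pre M) → u ∣ Nat.card M →
      v ∣ Nat.card M → False := fun M hM hres h1 h2 =>
    aut_u3 hF hq3 hp hq hf hu (by omega) huo (by norm_num) huf'
      (two_primes hR hq3 hM hres hu (by omega) hv hv7 huv huF hvF h1 h2).1
  have res_uw : ∀ M : Subgroup (PSU 6 F q), IsCoatom M → InUnitaryResidualClass (pre M) → u ∣ Nat.card M →
      w ∣ Nat.card M → False := fun M hM hres h1 h2 =>
    aut_u3 hF hq3 hp hq hf hu (by omega) huo (by norm_num) huf'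
      (two_primes hR hq3 hM hres hu (by omega) hw hwf huw huF hwF h1 h2).1
  have res_vw : ∀ M : Subgroup (PSU 6 F q), IsCoatom M → InUnitaryResidualClass (pre M) → v ∣ Nat.card M →
      w ∣ Nat.card M → False := fun M hM hres h1 h2 =>
    aut_u3 hF hq3 hp hq hf hv (by omega) hvo (by norm_num) hvf
      (two_primes hR hq3 hM hres hv hv7 hw hwf hvw hvF hwF h1 h2).1
  -- subgroups of order divisible by `u`
  have hover : ∀ M : Subgroup (PSU (3 + 3) F q), IsCoatom M → u ∣ Nat.card M →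
      (∃ W : Submodule F (Fin (3 + 3) → F), IsNondegenerateOn (hermForm (3 + 3) F q) W ∧ finrank F W = 1 ∧
        pre M ≤ subspaceStabilizer W) ∨ InUnitaryResidualClass (pre M) := by
    intro M hM huM
    rcases geo_over_pre (n := 3 + 3) hF hp hq hf hu huiff huo ⟨2, rfl⟩ (by norm_num) (by norm_num) (by omega) hM.1
      huM with ⟨W, h1, h2, h3, h4⟩ | ⟨W, h1, h2, h3, h4, h5⟩ | ⟨r, K, h1, h2, h3, h4, h5, h6⟩ | h
    · exfalso
      apply h1
      rw [← Submodule.finrank_eq_zero (R := F)]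
      omega
    · left
      refine ⟨W, h2, ?_, h5⟩
      have h6 : finrank F W ≠ 0 := fun h => h1 ((Submodule.finrank_eq_zero (R := F)).1 h)
      omega
    · exfalso
      have h7 := (Nat.prime_dvd_prime_iff_eq h1 Nat.prime_five).1 h4
      subst h7
      norm_num at h3
    · exact Or.inr h
  -- the elements
  obtain ⟨a, ha⟩ := exists_prime_orderOf_dvd_card' u
    (H149.PGU.dvd_card_psu (n := 3 + 3) hF (by norm_num) hu (by norm_num) (by norm_num) huo)
  obtain ⟨c, hc⟩ := exists_prime_orderOf_dvd_card' v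
    (H149.PGU.dvd_card_psu (n := 3 + 3) hF (by norm_num) hv (by norm_num) (by norm_num) hvo)
  obtain ⟨b, g, h, ⟨i, hi⟩, ⟨j, hj⟩, hgw, hgc, hgf, hhf, hcm, hiso⟩ := exists_b hF hw hwo
  let π := QuotientGroup.mk' (Subgroup.center (SU (3 + 3) F q))
  have hgM : ∀ M : Subgroup (PSU (3 + 3) F q), π b ∈ M → H918.suHom (3 + 3) F q g ∈ pre M := by
    intro M hM
    refine ⟨g, ?_, rfl⟩
    change π g ∈ M
    rw [← hi, map_pow]
    exact M.pow_mem hM i
  have hhM : ∀ M : Subgroup (PSU (3 + 3) F q), π b ∈ M → H918.suHom (3 + 3) F q h ∈ pre M := by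
    intro M hM
    refine ⟨h, ?_, rfl⟩
    change π h ∈ M
    rw [← hj, map_pow]
    exact M.pow_mem hM j
  have hwM : ∀ M : Subgroup (PSU (3 + 3) F q), π b ∈ M → w ∣ Nat.card M := by
    intro M hM
    have h1 : orderOf (π g) = w := by
      apply orderOf_eq_prime
      · rw [← map_pow, hgw, map_one]
      · intro h2
        exact hgc ((QuotientGroup.eq_one_iff _).1 h2)
    have h2 : π g ∈ M := by
      rw [← hi, map_pow]
      exact M.pow_mem hM i
    rw [← h1, ← Subgroup.orderOf_mk (π g) h2]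
    exact orderOf_dvd_natCard _
  have hGw : (H918.suHom (3 + 3) F q g) ^ w = 1 := by rw [← map_pow, hgw, map_one]
  -- `a`, `b`
  have inc_ba : Inc (π b) a := by
    apply inc_of_mem ha
    intro M hM hbM huM
    rcases hover M hM huM with ⟨W, hW, hW1, hle⟩ | hres
    · have hWf : W ≤ fx (L (3 + 3) F q g) := by
        refine le_fx hrw ?_ (inv_of_mem (hle (hgM M hbM))) ?_
        · rw [← map_pow, hgw, map_one]
        · rw [hF, hw3, hW1]
          norm_num
      obtain ⟨x, hx0, hx⟩ := finrank_eq_one_iff'.1 hW1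
      have hx0' : (x : Fin (3 + 3) → F) ≠ 0 := fun h => hx0 (Subtype.ext h)
      have hhx : L (3 + 3) F q h x ∈ W := inv_of_mem (hle (hhM M hbM)) _ x.2
      obtain ⟨k, hk⟩ := hx ⟨_, hhx⟩
      have hk' : L (3 + 3) F q h x = k • (x : Fin (3 + 3) → F) := by
        have := congrArg Subtype.val hk
        exact this.symm
      have h1 := hiso x (hWf x.2) hx0' k hk'
      obtain ⟨-, y, hy, hxy⟩ := hW x x.2 hx0'
      obtain ⟨l, hl⟩ := hx ⟨y, hy⟩
      have hl' : y = l • (x : Fin (3 + 3) → F) := by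
        have := congrArg Subtype.val hl
        exact this.symm
      apply hxy
      rw [hl', LieClassical.HermBasic.herm_smul_right, h1, mul_zero]
    · exact res_uw M hM hres huM (hwM M hbM)
  -- `a`, `c`
  have inc_ca : Inc c a := by
    apply inc_of_mem ha
    intro M hM hcM huM
    have hvM : v ∣ Nat.card M := by
      rw [← hc, ← Subgroup.orderOf_mk c hcM]
      exact orderOf_dvd_natCard _
    rcases hover M hM huM with ⟨W, hW, hW1, hle⟩ | hres
    · refine kill_point hF hv hvo ⟨3, rfl⟩ (by norm_num) hW1 ?_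
      refine (hvM.trans (card_dvd_pre M)).trans (Subgroup.card_dvd_of_le (le_inf hle ?_))
      exact (pre_le M).trans inf_le_left
    · exact res_uv M hM hres huM hvM
  -- `b`, `c`
  have inc_bc : Inc (π b) c := by
    apply inc_of_mem hc
    intro M hM hbM hvM
    rcases S5663.result (F := F) (3 + 3) q hF (by norm_num) (by norm_num) (pre M) (pre_le M) (pre_proper M hM.1) with
      ⟨X, hX, hle⟩ | hres
    · refine geo_bc hF hp hq hf hv hv7 hvo hw hwf hwiff hwo hX
        ((hvM.trans (card_dvd_pre M)).trans (Subgroup.card_dvd_of_le hle)) (hle (hgM M hbM)) (hle (hhM M hbM))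
        (L_isom g) hGw hgf hhf ?_
      intro x hx
      exact hcm x hx
    · exact res_vw M hM hres hvM (hwM M hbM)
  exact noTwo_of_three inc_bc inc_ca inc_ba

end Cfsg.Agent.H680.Cov.SU6
end
end

-- part: H981/Cov/RowU
section
prune_inst 0x5202424642200000000801202003c06ea000490002b0401ede10b400f88ed0380002720bcb01301d1ceb2a45078404003100119424000000e203000411b0080000352469318ad04300086808084000000000000000000000000000000010004000000000
set_option linter.all false
open scoped Cfsg.Agent.FastGrp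

/-!
# S2499, rows `PSU_n(q)`, `n ≥ 10` (task 3941): the generic rows
-/

set_option autoImplicit false

namespace Cfsg.Agent.H981.Cov

open Cfsg Cfsg.Geo Module Matrix
open Cfsg.Agent.H278.Cov
open Cfsg.Agent.H779.DP (rho rho_apply rho_injective)
open Cfsg.Agent.H809.SelfCent (toG toG_injective toG_val)
open Cfsg.Agent.H906.Cov (exists_num_u)

variable {F : Type} [Field F] [Fintype F] {n q : ℕ}

theorem isPrimePow_q (hF : Fintype.card F = q ^ 2) : IsPrimePow q := by
  have h1 : IsPrimePow (q ^ 2) := by rw [← hF]; exact FiniteField.isPrimePow_card F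
  exact (isPrimePow_pow_iff two_ne_zero).1 h1

theorem le_one_of_mul_le {k b : ℕ} (hk : 0 < k) (h : k * b ≤ k) : b ≤ 1 := by
  apply Nat.le_of_mul_le_mul_left _ hk
  rwa [mul_one]

theorem dvd_sub_of_gcd {r n k : ℕ} (h : r ∣ Nat.gcd n k) : r ∣ n - k :=
  Nat.dvd_sub (h.trans (Nat.gcd_dvd_left _ _)) (h.trans (Nat.gcd_dvd_right _ _))

theorem coprime_of_num {m l i k : ℕ} (hnum : Num (q ^ 2) n k m) (hl : l ∣ q ^ (2 * i) - 1) (h1 : 1 ≤ i)
    (h2 : i < k) : Nat.Coprime l m := by
  have h3 := hnum.prim i h1 h2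
  rw [← pow_mul] at h3
  exact (Nat.Coprime.coprime_dvd_right hl h3).symm

theorem coprime_of_ne {l₁ l₂ : ℕ} (h₁ : l₁.Prime) (h₂ : l₂.Prime) (h : l₁ ≠ l₂) : Nat.Coprime l₁ l₂ :=
  (Nat.coprime_primes h₁ h₂).2 h

/-- `n` odd -/
theorem row_odd (hP : Cfsg.Agent.H659.CovCore.S5948Stmt.{0}) (hF : Fintype.card F = q ^ 2) (hn : Odd n)
    (hn11 : 11 ≤ n) (hex : ¬ (n = 11 ∧ q = 2)) : NoTwo (SU n F q) := by
  have hqp := isPrimePow_q hF
  obtain ⟨t, ht⟩ := hn
  have hodd2 : Odd (n - 2) := ⟨t - 1, by omega⟩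
  have hodd8 : Odd (n - 8) := ⟨t - 4, by omega⟩
  have hnodd : Odd n := ⟨t, ht⟩
  obtain ⟨m₁, hm₁, num₁⟩ := exists_num_u (n := n) (k := n) hqp (by omega) le_rfl (by omega) hnodd (by omega)
  obtain ⟨a, ha1, ha2⟩ := exists_big (n := n) hF (c := 0) (k := n) (by omega) hnodd (by omega) (by omega) hm₁ num₁
  obtain ⟨m₂, hm₂, num₂⟩ := exists_num_u (n := n) (k := n - 2) hqp (by omega) (by omega) (by omega) hodd2 (by omega)
  obtain ⟨b, hb1, hb2⟩ := exists_big (n := n) hF (c := 2) (k := n - 2) (by omega) hodd2 (by omega) (by omega) hm₂ num₂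
  obtain ⟨l₁, B₁, hl₁, hu₁⟩ := exists_pos_even hF (d := 4) (by decide) (by norm_num)
  obtain ⟨l₂, B₂, hl₂, hu₂⟩ := exists_odd_block hF (k := n - 8) hodd8 (by omega) (by omega)
  obtain ⟨c, hc2, hc3, -⟩ := exists_pair (n := n) hF (d := 2 * 4) (e := n - 8) (by omega) hu₁ hu₂
    (coprime_of_ne B₁.pr B₂.pr (ne_of_prim hl₁ hl₂ (by omega))) dvd_rfl dvd_rfl B₁ B₂
  have hba : Inc b a := by
    refine inc_of hP hF hb2 ha2 ?_ (s := 1) (by rw [hb1]; exact num₂) ?_
    · rintro i h0 h1 ⟨i₁, j₁, rfl, h2, h3⟩ ⟨i₂, j₂, h4, h5, h6⟩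
      interval_cases i₁ <;> interval_cases i₂ <;> (clear * - hu₁ hu₂ h6 h0 h4 h1; omega)
    · intro r E g g' hr hrd _ _ _
      have h2 := dvd_sub_of_gcd hrd
      rw [show n - (n - 2) = 2 by (clear * - hn11; omega)] at h2
      have h3 : r = 2 := (Nat.prime_dvd_prime_iff_eq hr Nat.prime_two).1 h2
      have h4 := hrd.trans (Nat.gcd_dvd_left _ _)
      rw [h3] at h4
      omega
  have hbc : Inc b c := by
    refine inc_of hP hF hb2 hc2 ?_ (s := 1) (by rw [hb1]; exact num₂) ?_
    · rintro i h0 h1 ⟨i₁, j₁, rfl, h2, h3⟩ ⟨i₂, j₂, h4, h5, h6⟩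
      have h7 : j₂ ≤ 1 := le_one_of_mul_le (by omega) h6
      have h8 : i₂ ≤ 2 := by omega
      interval_cases i₁ <;> interval_cases j₂ <;> interval_cases i₂ <;> (clear * - hu₁ hu₂ h0 h4 h3 hn11 h1; omega)
    · intro r E g g' hr hrd _ _ _
      have h2 := dvd_sub_of_gcd hrd
      rw [show n - (n - 2) = 2 by omega] at h2
      have h3 : r = 2 := (Nat.prime_dvd_prime_iff_eq hr Nat.prime_two).1 h2
      have h4 := hrd.trans (Nat.gcd_dvd_left _ _)
      rw [h3] at h4
      omega
  have hac : Inc a c := by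
    refine inc_of hP hF ha2 hc2 ?_ (s := 1) (by rw [ha1]; exact num₁) ?_
    · rintro i h0 h1 ⟨i₁, j₁, rfl, h2, h3⟩ ⟨i₂, j₂, h4, h5, h6⟩
      interval_cases i₁ <;> omega
    · intro r E g g' hr hrd hE _ hg'
      rw [Nat.gcd_self] at hrd
      have h8 : r ∣ 8 := by
        rcases hc3 r E g' hr hE hg' with h | h
        · exact h
        · have := Nat.dvd_sub hrd h
          rwa [show n - (n - 8) = 8 by (clear * - hn11; omega)] at this
      have h9 := dvd_eight_cases hr h8
      rw [h9] at hrd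
      omega
  exact noTwo_of_three hba.symm hbc hac

/-- `n` even, `n ≥ 16`, or `n = 14`, `q ≠ 2` -/
theorem row_even (hP : Cfsg.Agent.H659.CovCore.S5948Stmt.{0}) (hF : Fintype.card F = q ^ 2) (hn : Even n)
    (hn14 : 14 ≤ n) (hex : ¬ (n = 14 ∧ q = 2)) : NoTwo (SU n F q) := by
  have hqp := isPrimePow_q hF
  obtain ⟨t, ht⟩ := hn
  have hodd1 : Odd (n - 1) := ⟨t - 1, by omega⟩
  have hodd5 : Odd (n - 5) := ⟨t - 3, by omega⟩
  have hodd7 : Odd (n - 7) := ⟨t - 4, by omega⟩
  obtain ⟨m₁, hm₁, num₁⟩ := exists_num_u (n := n) (k := n - 1) hqp (by omega) (by omega) (by omega) hodd1 (by omega)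
  obtain ⟨a, ha1, ha2⟩ := exists_big (n := n) hF (c := 1) (k := n - 1) (by omega) hodd1 (by omega) (by omega) hm₁ num₁
  obtain ⟨m₂, hm₂, num₂⟩ := exists_num_u (n := n) (k := n - 5) hqp (by omega) (by omega) (by omega) hodd5 (by omega)
  obtain ⟨l₁, B₁, hl₁, hu₁⟩ := exists_odd_block hF (k := 5) (by decide) (by norm_num) (by omega)
  obtain ⟨l₂, hl₂, hlm₂, -⟩ := num₂.sub
  have B₂ : Bl F q (n - 5) (n - 5) l₂ := Bl.self hl₂ (by omega) (num_ord hF (by omega) num₂ hl₂ hlm₂)
  obtain ⟨b, hb2, hb3, s, hs⟩ := exists_pair (n := n) hF (d := 5) (e := n - 5) (by omega) hu₁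
    (exists_tor hF hodd5 (by omega) (by omega) hm₂ (num_coprime hF (by omega) num₂))
    (coprime_of_num num₂ ((hl₁ (2 * 5)).2 dvd_rfl) (by norm_num) (by omega)) dvd_rfl hlm₂ B₁ B₂
  -- the third element
  obtain ⟨c, hc2, hc3⟩ : ∃ c : SU n F q,
      IsD c (fun t => ∃ i j, t = 7 * i + (n - 7) * j ∧ 7 * i ≤ n ∧ j ≤ 1 ∧ (n ≠ 14 → i ≤ 1)) ∧
      (5 ∣ n → ∀ (E : Subalgebra F (Matrix (Fin n) (Fin n) F)) (g : SU n F q),
        IsFieldSubalgebra 5 E → toG n F q (g * c * g⁻¹) ∈ subalgebraNormalizer E → False) := by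
    obtain ⟨l₃, B₃, hl₃, hu₃⟩ := exists_odd_block hF (k := 7) (by decide) (by norm_num) (by omega)
    by_cases h14 : n = 14
    · obtain ⟨c, hc⟩ := exists_double hF (n := n) (by omega) B₃ hu₃
      refine ⟨c, fun W hW => ?_, fun h => by omega⟩
      obtain ⟨i, hi⟩ := hc W hW
      have h5 := Submodule.finrank_le W
      rw [finrank_fin_fun] at h5
      exact ⟨i, 0, by omega, by omega, by omega, fun h => absurd h14 h⟩
    · obtain ⟨l₄, B₄, hl₄, hu₄⟩ := exists_odd_block hF (k := n - 7) hodd7 (by omega) (by omega)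
      obtain ⟨c, hc2, hc3, -⟩ := exists_pair (n := n) hF (d := 7) (e := n - 7) (by omega) hu₃ hu₄
        (coprime_of_ne B₃.pr B₄.pr (ne_of_prim hl₃ hl₄ (by omega))) dvd_rfl dvd_rfl B₃ B₄
      refine ⟨c, fun W hW => ?_, fun h5 E g hE hg => ?_⟩
      · obtain ⟨i, j, h1, h2, h3⟩ := hc2 W hW
        exact ⟨i, j, h1, by omega, le_one_of_mul_le (by omega) h3, fun _ => by omega⟩
      · rcases hc3 5 E g Nat.prime_five hE hg with h | h
        · omega
        · (clear * - hn14 h5 h; omega)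
  have hab : Inc a b := by
    refine inc_of hP hF ha2 hb2 ?_ (s := 1) (by rw [ha1]; exact num₁) ?_
    · rintro i h0 h1 ⟨i₁, j₁, rfl, h2, h3⟩ ⟨i₂, j₂, h4, h5, h6⟩
      have h7 : j₂ ≤ 1 := le_one_of_mul_le (by omega) h6
      have h8 : i₂ ≤ 1 := by omega
      interval_cases i₁ <;> interval_cases j₁ <;> interval_cases j₂ <;> interval_cases i₂ <;> omega
    · intro r E g g' hr hrd _ _ _
      have h2 := dvd_sub_of_gcd hrd
      rw [show n - (n - 1) = 1 by omega] at h2
      exact hr.one_lt.ne' (Nat.dvd_one.1 h2)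
  have hac : Inc a c := by
    refine inc_of hP hF ha2 hc2 ?_ (s := 1) (by rw [ha1]; exact num₁) ?_
    · rintro i h0 h1 ⟨i₁, j₁, rfl, h2, h3⟩ ⟨i₂, j₂, h4, h5, h6, h7⟩
      by_cases h14 : n = 14
      · subst h14
        have h8 : i₂ ≤ 2 := by omega
        interval_cases i₁ <;> interval_cases j₁ <;> interval_cases j₂ <;> interval_cases i₂ <;> (clear * - hu₁ h0 h4 h1; omega)
      · have h8 := h7 h14
        interval_cases i₁ <;> interval_cases j₁ <;> interval_cases j₂ <;> interval_cases i₂ <;> omega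
    · intro r E g g' hr hrd _ _ _
      have h2 := dvd_sub_of_gcd hrd
      rw [show n - (n - 1) = 1 by omega] at h2
      exact hr.one_lt.ne' (Nat.dvd_one.1 h2)
  have hbc : Inc b c := by
    refine inc_of hP hF hb2 hc2 ?_ (s := s) (by rw [hs]; exact num₂) ?_
    · rintro i h0 h1 ⟨i₁, j₁, rfl, h2, h3⟩ ⟨i₂, j₂, h4, h5, h6, h7⟩
      have h9 : j₁ ≤ 1 := le_one_of_mul_le (by omega) h3
      have h10 : i₁ ≤ 1 := by omega
      by_cases h14 : n = 14
      · subst h14
        have h8 : i₂ ≤ 2 := by omega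
        interval_cases i₁ <;> interval_cases j₁ <;> interval_cases j₂ <;> interval_cases i₂ <;> (clear * - hu₁ h0 h4 h1; omega)
      · have h8 := h7 h14
        interval_cases i₁ <;> interval_cases j₁ <;> interval_cases j₂ <;> interval_cases i₂ <;> omega
    · intro r E g g' hr hrd hE _ hg'
      have h2 := dvd_sub_of_gcd hrd
      rw [show n - (n - 5) = 5 by omega] at h2
      have h3 : r = 5 := (Nat.prime_dvd_prime_iff_eq hr Nat.prime_five).1 h2
      subst h3
      exact hc3 (hrd.trans (Nat.gcd_dvd_left _ _)) E g' hE hg'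
  exact noTwo_of_three hab hbc hac

/-- `n = 12` -/
theorem row_twelve (hP : Cfsg.Agent.H659.CovCore.S5948Stmt.{0}) (hF : Fintype.card F = q ^ 2) :
    NoTwo (SU 12 F q) := by
  have hqp := isPrimePow_q hF
  obtain ⟨m₁, hm₁, num₁⟩ := exists_num_u (n := 12) (k := 11) hqp (by omega) (by omega) (by omega) (by decide)
    (by omega)
  obtain ⟨a, ha1, ha2⟩ := exists_big (n := 12) hF (c := 1) (k := 11) (by omega) (by decide) (by omega) (by omega) hm₁ num₁
  obtain ⟨m₂, hm₂, num₂⟩ := exists_num_u (n := 12) (k := 7) hqp (by omega) (by omega) (by omega) (by decide)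
    (by omega)
  obtain ⟨l₁, B₁, hl₁, hu₁⟩ := exists_odd_block hF (k := 5) (by decide) (by norm_num) (by omega)
  obtain ⟨l₂, hl₂, hlm₂, -⟩ := num₂.sub
  have B₂ : Bl F q 7 7 l₂ := Bl.self hl₂ (by omega) (num_ord hF (by omega) num₂ hl₂ hlm₂)
  obtain ⟨b, hb2, hb3, s, hs⟩ := exists_pair hF (n := 12) (d := 5) (e := 7) (by omega) hu₁
    (exists_tor hF (by decide) (by omega) (by omega) hm₂ (num_coprime hF (by omega) num₂))
    (coprime_of_num num₂ ((hl₁ (2 * 5)).2 dvd_rfl) (by norm_num) (by omega)) dvd_rfl hlm₂ B₁ B₂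
  obtain ⟨l₃, B₃, hl₃, hu₃⟩ := exists_pos_even hF (d := 6) (by decide) (by norm_num)
  obtain ⟨c, hc2⟩ := exists_single (n := 12) B₃ hu₃
  have hab : Inc a b := by
    refine inc_of hP hF ha2 hb2 ?_ (s := 1) (by rw [ha1]; exact num₁) ?_
    · rintro i h0 h1 ⟨i₁, j₁, rfl, h2, h3⟩ ⟨i₂, j₂, h4, h5, h6⟩
      have g1 : i₁ ≤ 2 := by omega
      have g2 : i₂ ≤ 2 := by omega
      have g3 : j₁ ≤ 1 := by omega
      have g4 : j₂ ≤ 1 := by omega
      interval_cases i₁ <;> interval_cases j₁ <;> interval_cases i₂ <;> interval_cases j₂ <;> (clear * - hu₁ hu₃ h0 h4 h5 h1; omega)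
    · intro r E g g' hr hrd _ _ _
      have h2 := dvd_sub_of_gcd hrd
      exact hr.one_lt.ne' (Nat.dvd_one.1 h2)
  have hac : Inc a c := by
    refine inc_of hP hF ha2 hc2 ?_ (s := 1) (by rw [ha1]; exact num₁) ?_
    · rintro i h0 h1 ⟨i₁, j₁, rfl, h2, h3⟩ ⟨i₂, h4⟩
      have g1 : i₁ ≤ 1 := by omega
      have g2 : i₂ ≤ 2 := by omega
      have g3 : j₁ ≤ 1 := by omega
      interval_cases i₁ <;> interval_cases j₁ <;> interval_cases i₂ <;> omega
    · intro r E g g' hr hrd _ _ _
      have h2 := dvd_sub_of_gcd hrd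
      exact hr.one_lt.ne' (Nat.dvd_one.1 h2)
  have hbc : Inc b c := by
    refine inc_of hP hF hb2 hc2 ?_ (s := s) (by rw [hs]; exact num₂) ?_
    · rintro i h0 h1 ⟨i₁, j₁, rfl, h2, h3⟩ ⟨i₂, h4⟩
      have g1 : i₁ ≤ 1 := by (clear * - h1 h4; omega)
      have g2 : i₂ ≤ 2 := by (clear * - h1 h4; omega)
      have g3 : j₁ ≤ 1 := by (clear * - h1 h3; omega)
      interval_cases i₁ <;> interval_cases j₁ <;> interval_cases i₂ <;> omega
    · intro r E g g' hr hrd _ _ _
      have h2 : Nat.gcd 12 7 = 1 := by norm_num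
      rw [h2] at hrd
      exact hr.one_lt.ne' (Nat.dvd_one.1 hrd)
  exact noTwo_of_three hab hbc hac

/-- `n = 10`, `q ≠ 2` -/
theorem row_ten (hP : Cfsg.Agent.H659.CovCore.S5948Stmt.{0}) (hF : Fintype.card F = q ^ 2) (hq : q ≠ 2) :
    NoTwo (SU 10 F q) := by
  have hqp := isPrimePow_q hF
  obtain ⟨m₁, hm₁, num₁⟩ := exists_num_u (n := 10) (k := 9) hqp (by omega) (by omega) (by omega) (by decide)
    (by omega)
  obtain ⟨a, ha1, ha2⟩ := exists_big (n := 10) hF (c := 1) (k := 9) (by omega) (by decide) (by omega) (by omega) hm₁ num₁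
  obtain ⟨m₂, hm₂, num₂⟩ := exists_num_u (n := 10) (k := 7) hqp (by omega) (by omega) (by omega) (by decide)
    (by omega)
  obtain ⟨l₁, B₁, hl₁, hu₁⟩ := exists_odd_block hF (k := 3) (by decide) (by norm_num) (by omega)
  obtain ⟨l₂, hl₂, hlm₂, -⟩ := num₂.sub
  have B₂ : Bl F q 7 7 l₂ := Bl.self hl₂ (by omega) (num_ord hF (by omega) num₂ hl₂ hlm₂)
  obtain ⟨b, hb2, hb3, s, hs⟩ := exists_pair hF (n := 10) (d := 3) (e := 7) (by omega) hu₁
    (exists_tor hF (by decide) (by omega) (by omega) hm₂ (num_coprime hF (by omega) num₂))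
    (coprime_of_num num₂ ((hl₁ (2 * 3)).2 dvd_rfl) (by norm_num) (by omega)) dvd_rfl hlm₂ B₁ B₂
  obtain ⟨l₃, B₃, hl₃, hu₃⟩ := exists_odd_block hF (k := 5) (by decide) (by norm_num) (by omega)
  obtain ⟨c, hc2⟩ := exists_double hF (n := 10) (by omega) B₃ hu₃
  have hab : Inc a b := by
    refine inc_of hP hF ha2 hb2 ?_ (s := 1) (by rw [ha1]; exact num₁) ?_
    · rintro i h0 h1 ⟨i₁, j₁, rfl, h2, h3⟩ ⟨i₂, j₂, h4, h5, h6⟩
      have g1 : i₁ ≤ 2 := by omega
      have g2 : i₂ ≤ 2 := by omega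
      have g3 : j₁ ≤ 1 := by omega
      have g4 : j₂ ≤ 1 := by omega
      interval_cases i₁ <;> interval_cases j₁ <;> interval_cases i₂ <;> interval_cases j₂ <;> (clear * - hu₁ hu₃ h0 h4 h5 h1; omega)
    · intro r E g g' hr hrd _ _ _
      have h2 := dvd_sub_of_gcd hrd
      exact hr.one_lt.ne' (Nat.dvd_one.1 h2)
  have hac : Inc a c := by
    refine inc_of hP hF ha2 hc2 ?_ (s := 1) (by rw [ha1]; exact num₁) ?_
    · rintro i h0 h1 ⟨i₁, j₁, rfl, h2, h3⟩ ⟨i₂, h4⟩
      have g1 : i₁ ≤ 1 := by omega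
      have g2 : i₂ ≤ 2 := by omega
      have g3 : j₁ ≤ 1 := by omega
      interval_cases i₁ <;> interval_cases j₁ <;> interval_cases i₂ <;> omega
    · intro r E g g' hr hrd _ _ _
      have h2 := dvd_sub_of_gcd hrd
      exact hr.one_lt.ne' (Nat.dvd_one.1 h2)
  have hbc : Inc b c := by
    refine inc_of hP hF hb2 hc2 ?_ (s := s) (by rw [hs]; exact num₂) ?_
    · rintro i h0 h1 ⟨i₁, j₁, rfl, h2, h3⟩ ⟨i₂, h4⟩
      have g1 : i₁ ≤ 1 := by (clear * - h2; omega)
      have g2 : i₂ ≤ 2 := by omega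
      have g3 : j₁ ≤ 1 := by (clear * - h1; omega)
      interval_cases i₁ <;> interval_cases j₁ <;> interval_cases i₂ <;> omega
    · intro r E g g' hr hrd _ _ _
      have h2 : Nat.gcd 10 7 = 1 := by norm_num
      rw [h2] at hrd
      exact hr.one_lt.ne' (Nat.dvd_one.1 hrd)
  exact noTwo_of_three hab hbc hac

/-- the block `pos 3` for `q = 2` -/
theorem exists_pos_three (hF : Fintype.card F = 2 ^ 2) :
    ∃ l, Bl F 2 (2 * 3) 3 l ∧ (∀ m, l ∣ 2 ^ m - 1 ↔ 3 ∣ m) ∧ ∃ u : SU (2 * 3) F 2, orderOf u = l := by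
  obtain ⟨l, hl, hm, -, -⟩ := Cfsg.Agent.Lib.Zsigmondy.exists_primitive (a := 2) (n := 3) le_rfl (by norm_num)
    (by norm_num) (by norm_num)
  have h7 : l = 7 := (Nat.prime_dvd_prime_iff_eq hl (by norm_num)).1 ((hm 3).2 dvd_rfl)
  have ho : orderOf ((Nat.card F : ℕ) : ZMod l) = 3 := ord_of hF hm fun i => by omega
  refine ⟨l, Bl.two hF hl (not_dvd_q hl (by norm_num) le_rfl hm) (by norm_num) ho ((hm _).2 (by norm_num)) ?_, hm, ?_⟩
  · rw [h7]
    decide
  have h8 : l ∣ Nat.card (Cfsg.SU (2 * 3) F 2) := by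
    refine Cfsg.Agent.H809.SelfCent.dvd_card_SU hF (by omega) hl ?_ (by rw [h7]; norm_num)
    refine Dvd.dvd.mul_left ?_ _
    refine Dvd.dvd.trans ?_ (Finset.dvd_prod_of_mem _ (Finset.mem_range.2 (show 5 < 2 * 3 by omega)))
    rw [h7]
    decide
  have : Fact l.Prime := ⟨hl⟩
  exact exists_prime_orderOf_dvd_card' l h8

/-- `U_11(2)` -/
theorem row_eleven_two (hP : Cfsg.Agent.H659.CovCore.S5948Stmt.{0}) (hF : Fintype.card F = 2 ^ 2) :
    NoTwo (SU 11 F 2) := by
  have hqp := isPrimePow_q hF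
  obtain ⟨m₁, hm₁, num₁⟩ := exists_num_u (n := 11) (k := 11) hqp (by omega) (by omega) (by omega) (by decide)
    (by omega)
  obtain ⟨a, ha1, ha2⟩ := exists_big (n := 11) hF (c := 0) (k := 11) (by omega) (by decide) (by omega) (by omega) hm₁ num₁
  obtain ⟨m₂, hm₂, num₂⟩ := exists_num_u (n := 11) (k := 7) hqp (by omega) (by omega) (by omega) (by decide)
    (by omega)
  obtain ⟨l₁, B₁, hl₁, hu₁⟩ := exists_pos_even hF (d := 2) (by decide) (by norm_num)
  obtain ⟨l₂, hl₂, hlm₂, -⟩ := num₂.sub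
  have B₂ : Bl F 2 7 7 l₂ := Bl.self hl₂ (by omega) (num_ord hF (by omega) num₂ hl₂ hlm₂)
  obtain ⟨b, hb2, hb3, s, hs⟩ := exists_pair hF (n := 11) (d := 2 * 2) (e := 7) (by omega) hu₁
    (exists_tor hF (by decide) (by omega) (by omega) hm₂ (num_coprime hF (by omega) num₂))
    (coprime_of_num num₂ ((hl₁ (2 * 2)).2 dvd_rfl) (by norm_num) (by omega)) dvd_rfl hlm₂ B₁ B₂
  obtain ⟨l₃, B₃, hl₃, hu₃⟩ := exists_pos_three hF
  obtain ⟨l₄, B₄, hl₄, hu₄⟩ := exists_odd_block hF (k := 5) (by decide) (by norm_num) (by omega)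
  obtain ⟨c, hc2, hc3, -⟩ := exists_pair hF (n := 11) (d := 2 * 3) (e := 5) (by omega) hu₃ hu₄
    (coprime_of_ne B₃.pr B₄.pr (ne_of_prim hl₃ hl₄ (by omega))) dvd_rfl dvd_rfl B₃ B₄
  have hba : Inc b a := by
    refine inc_of hP hF hb2 ha2 ?_ (s := s) (by rw [hs]; exact num₂) ?_
    · rintro i h0 h1 ⟨i₁, j₁, rfl, h2, h3⟩ ⟨i₂, j₂, h4, h5, h6⟩
      have g1 : i₁ ≤ 2 := by (clear * - h0 h1 h4 h6; omega)
      have g2 : i₂ ≤ 2 := by (clear * - h1 h4; omega)
      have g3 : j₁ ≤ 1 := by (clear * - h0 h1; omega)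
      have g4 : j₂ ≤ 1 := by (clear * - h6; omega)
      interval_cases i₁ <;> interval_cases j₁ <;> interval_cases i₂ <;> interval_cases j₂ <;> omega
    · intro r E g g' hr hrd _ _ _
      have h2 : Nat.gcd 11 7 = 1 := by norm_num
      rw [h2] at hrd
      exact hr.one_lt.ne' (Nat.dvd_one.1 hrd)
  have hbc : Inc b c := by
    refine inc_of hP hF hb2 hc2 ?_ (s := s) (by rw [hs]; exact num₂) ?_
    · rintro i h0 h1 ⟨i₁, j₁, rfl, h2, h3⟩ ⟨i₂, j₂, h4, h5, h6⟩
      have g1 : i₁ ≤ 2 := by (clear * - h2; omega)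
      have g2 : i₂ ≤ 2 := by (clear * - h5; omega)
      have g3 : j₁ ≤ 1 := by omega
      have g4 : j₂ ≤ 1 := by omega
      interval_cases i₁ <;> interval_cases j₁ <;> interval_cases i₂ <;> interval_cases j₂ <;> (clear * - hu₁ hu₃ hu₄ h0 h4 h1; omega)
    · intro r E g g' hr hrd _ _ _
      have h2 : Nat.gcd 11 7 = 1 := by norm_num
      rw [h2] at hrd
      exact hr.one_lt.ne' (Nat.dvd_one.1 hrd)
  have hac : Inc a c := by
    refine inc_of hP hF ha2 hc2 ?_ (s := 1) (by rw [ha1]; exact num₁) ?_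
    · rintro i h0 h1 ⟨i₁, j₁, rfl, h2, h3⟩ ⟨i₂, j₂, h4, h5, h6⟩
      have g1 : i₁ ≤ 2 := by omega
      have g2 : i₂ ≤ 2 := by omega
      have g3 : j₁ ≤ 1 := by omega
      have g4 : j₂ ≤ 1 := by omega
      interval_cases i₁ <;> interval_cases j₁ <;> interval_cases i₂ <;> interval_cases j₂ <;> omega
    · intro r E g g' hr hrd hE _ hg'
      rw [Nat.gcd_self] at hrd
      have h11 : r = 11 := (Nat.prime_dvd_prime_iff_eq hr (by norm_num)).1 hrd
      subst h11
      rcases hc3 11 E g' hr hE hg' with h | h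
      · omega
      · omega
  exact noTwo_of_three hba.symm hbc hac

end Cfsg.Agent.H981.Cov
end

-- part: H981/Cov/Ten
section
prune_inst 0x2024000000000000800220003c0282000490000b0400c50002400680ac020000262080200100100080040030004002000000004000000420000001180080000002040100a000000080000000000000000000000000000000000000000000000000000
set_option linter.all false
open scoped Cfsg.Agent.FastGrp

-- part: H981/Cov/Nine
section
/-!
# S2499, rows `PSU_n(q)`, `n ≥ 10` (task 3941): `U_14(2)`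

For `q = 2` the block `[3]` is a monomial matrix of order `9` in `GU_3(2)`; the determinant is corrected by a scalar on
the other block.
-/

set_option autoImplicit false

namespace Cfsg.Agent.H981.Cov

open Cfsg Cfsg.Geo Module Matrix
open Cfsg.Agent.H278.Cov
open Cfsg.Agent.LieClassical (GUOrder.frob)
open Cfsg.Agent.H674.SUTools (cm cm_injective det_cm mkSU cm_mkSU cm_isom orderOf_cm)
open Cfsg.Agent.H674.SUBlock (blk blk_one blk_mul det_blk isom_blk blk_inj blk_castAdd blk_natAdd)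
open Cfsg.Agent.H779.DP (rho rho_apply rho_injective)
open Cfsg.Agent.H809.SelfCent (toG toG_injective toG_val)
open Cfsg.Agent.H906.Cov (exists_num_u)

variable {F : Type} [Field F] {n k q : ℕ}

/-- a monomial matrix with `Y ^ 3 = w` -/
def Y (w : F) : Matrix (Fin 3) (Fin 3) F := !![0, 0, w; 1, 0, 0; 0, 1, 0]

theorem det_Y (w : F) : (Y w).det = w := by
  simp [Y, Matrix.det_fin_three]

theorem Y_cube (w : F) : Y w * (Y w * Y w) = w • (1 : Matrix (Fin 3) (Fin 3) F) := by
  ext i j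
  (revert i j; simp only [Y, Matrix.mul_apply, Fin.sum_univ_three, _root_.Fin.forall_fin_succ, _root_.Matrix.cons_mul, _root_.Nat.succ_eq_add_one, Nat.reduceAdd, _root_.Matrix.vecMul_cons, _root_.Matrix.head_cons, _root_.zero_smul, _root_.Matrix.tail_cons, _root_.Matrix.smul_cons, _root_.smul_eq_mul, _root_.MulZeroClass.mul_zero, _root_.mul_one, _root_.Matrix.smul_empty, _root_.Matrix.empty_vecMul, _root_.add_zero, _root_.zero_add, _root_.one_smul, _root_.Matrix.empty_mul, _root_.Equiv.symm_apply_apply, _root_.Matrix.of_apply, _root_.Matrix.cons_val', _root_.Matrix.cons_val_fin_one, Fin.isValue, _root_.Matrix.cons_val_zero, _root_.Matrix.cons_val_one, _root_.Matrix.cons_val, _root_.Matrix.smul_apply, _root_.Matrix.cons_val_succ, _root_.IsEmpty.forall_iff, _root_.and_true, _root_.Matrix.one_apply_eq, _root_.MulZeroClass.zero_mul, _root_.Fin.succ_zero_eq_one, _root_.ne_eq, _root_.zero_ne_one, _root_.not_false_eq_true, _root_.Matrix.one_apply_ne, _root_.Fin.succ_one_eq_two,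 Fin.reduceEq, _root_.and_self, _root_.Fin.succ_ne_zero, _root_.one_mul, _root_.zero_eq_mul, _root_.true_and, _root_.or_true])

variable [Fintype F]

theorem Y_isom (hF : Fintype.card F = q ^ 2) {w : F} (hw : w ^ (q + 1) = 1) :
    (Y w)ᵀ * (Y w).map (Cfsg.Agent.LieClassical.GUOrder.frob hF) = 1 := by
  have h : w * w ^ q = 1 := by rw [← pow_succ', hw]
  have hq : q ≠ 0 := by have := two_le_q hF; omega
  ext i j
  (revert i j; simp only [Y, Matrix.mul_apply, Fin.sum_univ_three, Cfsg.Agent.LieClassical.GUOrder.frob_apply, h, hq, _root_.Fin.forall_fin_succ, _root_.Matrix.transpose_apply, _root_.Matrix.of_apply, _root_.Matrix.cons_val', _root_.Matrix.cons_val_fin_one, _root_.Matrix.map_apply, Fin.isValue, _root_.Matrix.cons_val_zero, _root_.Matrix.cons_val_one, _root_.Matrix.cons_val, _root_.ne_eq, _root_.not_false_eq_true, _root_.zero_pow, _root_.MulZeroClass.mul_zero, _root_.one_pow, _root_.mul_one, _root_.zero_add, _root_.add_zero, _root_.Matrix.cons_val_succ,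 _root_.IsEmpty.forall_iff, _root_.and_true, _root_.Matrix.one_apply_eq, Nat.reduceAdd, _root_.Fin.succ_zero_eq_one, _root_.zero_ne_one, _root_.Matrix.one_apply_ne, _root_.MulZeroClass.zero_mul, _root_.Fin.succ_one_eq_two, Fin.reduceEq, _root_.and_self, _root_.Fin.succ_ne_zero, _root_.true_and])

theorem smul_isom (hF : Fintype.card F = q ^ 2) {z : F} (hz : z ^ (q + 1) = 1) {B : Matrix (Fin k) (Fin k) F}
    (hB : Bᵀ * B.map (Cfsg.Agent.LieClassical.GUOrder.frob hF) = 1) :
    (z • B)ᵀ * (z • B).map (Cfsg.Agent.LieClassical.GUOrder.frob hF) = 1 := by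
  have h : z * z ^ q = 1 := by rw [← pow_succ', hz]
  have h1 : (z • B).map (Cfsg.Agent.LieClassical.GUOrder.frob hF) =
      (z ^ q) • B.map (Cfsg.Agent.LieClassical.GUOrder.frob hF) := by
    ext i j
    simp [Cfsg.Agent.LieClassical.GUOrder.frob_apply, mul_pow]
  rw [h1, Matrix.transpose_smul, Matrix.smul_mul, Matrix.mul_smul, hB, smul_smul, h, one_smul]

/-- elements `Y + z [k]` -/
theorem exists_nine (hF : Fintype.card F = 2 ^ 2) {m : ℕ} (hn : n = 3 + k) (hk : Odd k) (hk3 : 3 < k)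
    (hk' : ¬ 3 ∣ k) (hm : m ∣ 2 ^ k + 1) (hnum : Num (2 ^ 2) n k m) :
    ∃ x : SU n F 2, orderOf (x ^ 9) = m ∧ IsD x (fun t => ∃ i j, t = k * i + 3 * j ∧ i ≤ 1 ∧ j ≤ 1) := by
  subst hn
  have hco : Nat.Coprime m (2 + 1) := num_coprime hF (by omega) hnum
  obtain ⟨w, hw, hw1⟩ := Cfsg.Agent.LieClassical.GUOrder.exists_norm_one hF
  have hw3 : w ^ 3 = 1 := hw
  obtain ⟨v, hv⟩ := exists_tor hF hk (by omega) (by omega) hm hco
  set z : F := w ^ (2 * k) with hz
  have hz3 : z ^ 3 = 1 := by rw [hz, ← pow_mul, mul_comm, pow_mul, hw3, one_pow]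
  have hdet : w * z ^ k = 1 := by
    have h3 : 3 ∣ 2 * k * k + 1 := by
      have h4 : k % 3 = 1 ∨ k % 3 = 2 := by omega
      apply Nat.dvd_of_mod_eq_zero
      rw [Nat.add_mod, Nat.mul_mod, Nat.mul_mod 2 k]
      rcases h4 with h | h <;> rw [h]
    obtain ⟨c, hc⟩ := h3
    rw [hz, ← pow_mul, ← pow_succ', hc, pow_mul, hw3, one_pow]
  set x : SU (3 + k) F 2 := mkSU hF (blk (Y w) (z • cm v))
    (by rw [det_blk, det_Y, Matrix.det_smul, det_cm, Fintype.card_fin, mul_one, hdet])
    (isom_blk hF (Y_isom hF hw) (smul_isom hF hz3 (cm_isom hF v))) with hx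
  have hcx : cm x = blk (Y w) (z • cm v) := rfl
  have hcx3 : cm (x ^ 3) = blk (w • 1) (z ^ 3 • cm v ^ 3) := by
    rw [map_pow, hcx, pow_succ', pow_two, ← blk_mul, ← blk_mul, Y_cube]
    congr 1
    rw [← pow_two, ← pow_succ', smul_pow]
  have hx9 : x ^ 9 = bk hF ((1 : SU 3 F 2), v ^ 9) := by
    apply cm_injective
    have h1 : x ^ 9 = x ^ 3 * (x ^ 3 * x ^ 3) := by rw [← pow_add, ← pow_add]
    have h2 : v ^ 9 = v ^ 3 * (v ^ 3 * v ^ 3) := by rw [← pow_add, ← pow_add]
    rw [cm_bk, h1, h2, map_mul, map_mul, hcx3, ← blk_mul, ← blk_mul, map_one, map_mul, map_mul, map_pow, hz3]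
    congr 1
    · rw [← pow_two, ← pow_succ', smul_pow, hw3, one_pow, one_smul]
    · rw [one_smul]
  have hm0 : 0 < m := by rw [← hv]; exact orderOf_pos v
  have hov : orderOf (v ^ 9) = m := by
    rw [Nat.Coprime.orderOf_pow, hv]
    rw [hv]
    exact Nat.Coprime.pow_right 2 hco
  refine ⟨x, ?_, ?_⟩
  · rw [hx9, orderOf_injective _ (bk_injective hF), Prod.orderOf_mk, orderOf_one, Nat.lcm_one_left, hov]
  · intro W hW
    obtain ⟨l, hl, hlm, -⟩ := hnum.sub
    have ho : orderOf ((Nat.card F : ℕ) : ZMod l) = k := num_ord hF (by omega) hnum hl hlm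
    have B : Bl F 2 k k l := Bl.self hl (by omega) ho
    set v' := (v ^ 9) ^ (m / l) with hv'
    have hv2 : orderOf v' = l := by
      rw [hv', ← hov]
      exact orderOf_pow_orderOf_div (orderOf_pos _).ne' (by rw [hov]; exact hlm)
    have hvl : v' ^ l = 1 := by
      nth_rewrite 1 [← hv2]
      exact pow_orderOf_eq_one _
    have hvne : v' ≠ 1 := by
      intro h
      rw [h, orderOf_one] at hv2
      exact B.pr.one_lt.ne hv2
    have hfv := B.ff _ hvl hvne
    set s := 9 * (m / l) with hs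
    have hxs : x ^ s = bk hF ((1 : SU 3 F 2), v') := by
      rw [hs, pow_mul, hx9, ← map_pow, Prod.pow_mk, one_pow]
    have hT : (rho (3 + k) F 2 (x ^ s)) ^ l = 1 := by
      rw [← map_pow, hxs, ← map_pow, Prod.pow_mk, hvl, one_pow]
      have : bk hF ((1 : SU 3 F 2), (1 : SU k F 2)) = 1 := map_one (bk hF)
      rw [this, map_one]
    have hpw : ∀ s : ℕ, ∀ w ∈ W, rho (3 + k) F 2 (x ^ s) w ∈ W := by
      intro s
      induction s with
      | zero => intro w hw; rw [pow_zero, rho_one_apply]; exact hw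
      | succ s ih => intro w hw; rw [pow_succ', rho_mul_apply]; exact hW _ (ih w hw)
    have hfd : finrank F (fx (rho (3 + k) F 2 (x ^ s))) = 3 := by
      change fd _ = 3
      rw [hxs, fd_bk, hfv, fd_one, add_zero]
    obtain ⟨i, j, h1, h2, h3, h4⟩ := dim_one hl (by omega) ho hT (hpw s)
    rw [hfd, finrank_fin_fun] at h2
    rw [hfd] at h3
    have hi : i ≤ 1 := by
      rcases Nat.lt_or_ge 1 i with h5 | h5
      · have : k * 2 ≤ k * i := Nat.mul_le_mul_left k h5
        omega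
      · exact h5
    -- the fixed space
    set U : Submodule F (Fin (3 + k) → F) := W ⊓ fx (rho (3 + k) F 2 (x ^ s)) with hU
    have hzero : ∀ u ∈ fx (rho (3 + k) F 2 (x ^ s)), (fun i => u (Fin.natAdd 3 i)) = 0 := by
      intro u hu
      have h5 : (fun i => u (Fin.natAdd 3 i)) ∈ fx (rho k F 2 v') := by
        rw [mem_fx, rho_cm, Matrix.toLin'_apply]
        funext i
        rw [mem_fx, rho_cm, Matrix.toLin'_apply, hxs, cm_bk] at hu
        have h6 := congrFun hu (Fin.natAdd 3 i)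
        rw [blk_mulVec_right] at h6
        exact h6
      rw [fd, Submodule.finrank_eq_zero] at hfv
      rw [hfv, Submodule.mem_bot] at h5
      exact h5
    have hcube : ∀ u ∈ fx (rho (3 + k) F 2 (x ^ s)), rho (3 + k) F 2 (x ^ 3) u = w • u := by
      intro u hu
      have h5 := hzero u hu
      rw [rho_cm, Matrix.toLin'_apply, hcx3]
      funext i
      refine Fin.addCases (fun i => ?_) (fun i => ?_) i
      · rw [blk_mulVec_left, Matrix.smul_mulVec, Matrix.one_mulVec]
        rfl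
      · rw [blk_mulVec_right, h5, Matrix.mulVec_zero, Pi.smul_apply]
        have h6 := congrFun h5 i
        have h7 : u (Fin.natAdd 3 i) = 0 := h6
        rw [h7, smul_zero]
        rfl
    have hUx : ∀ u ∈ U, rho (3 + k) F 2 x u ∈ U := by
      rintro u ⟨hu1, hu2⟩
      refine ⟨hW u hu1, mem_fx.2 ?_⟩
      rw [← rho_mul_apply]
      have h5 : x ^ s * x = x * x ^ s := (pow_mul_comm' x s)
      rw [h5, rho_mul_apply, mem_fx.1 hu2]
    let f : U →ₗ[F] U := (rho (3 + k) F 2 x).restrict hUx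
    have hf3 : f * (f * f) = w • (1 : U →ₗ[F] U) := by
      apply LinearMap.ext
      intro u
      apply Subtype.ext
      have h5 := hcube u.1 u.2.2
      have h6 : x ^ 3 = x * (x * x) := by rw [pow_succ', pow_two]
      rw [h6, rho_mul_apply, rho_mul_apply] at h5
      exact h5
    have hdf : LinearMap.det f * (LinearMap.det f * LinearMap.det f) = w ^ finrank F U := by
      rw [← map_mul, ← map_mul, hf3, LinearMap.det_smul, map_one, mul_one]
    have hw0 : w ≠ 0 := by
      rintro rfl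
      rw [zero_pow (by norm_num)] at hw
      exact zero_ne_one hw
    have hdf0 : LinearMap.det f ≠ 0 := by
      intro h0
      rw [h0, zero_mul] at hdf
      exact pow_ne_zero _ hw0 hdf.symm
    have hdf3 : LinearMap.det f * (LinearMap.det f * LinearMap.det f) = 1 := by
      have h5 := FiniteField.pow_card_sub_one_eq_one (LinearMap.det f) hdf0
      rw [hF] at h5
      have h6 : (2 ^ 2 - 1 : ℕ) = 3 := by norm_num
      rw [h6, pow_succ', pow_two] at h5
      exact h5
    have how : orderOf w = 3 := orderOf_eq_prime hw3 hw1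
    have h3U : 3 ∣ finrank F U := by
      have h5 : orderOf w ∣ finrank F U := by
        apply orderOf_dvd_of_pow_eq_one
        rw [← hdf, hdf3]
      exact (dvd_of_eq how.symm).trans h5
    obtain ⟨c, hc⟩ := h3U
    rw [← h4] at hc
    exact ⟨i, c, by rw [h1, hc], hi, by omega⟩

/-- `U_14(2)` -/
theorem row_fourteen_two (hP : Cfsg.Agent.H659.CovCore.S5948Stmt.{0}) (hF : Fintype.card F = 2 ^ 2) :
    NoTwo (SU 14 F 2) := by
  have hqp := isPrimePow_q hF
  obtain ⟨m₁, hm₁, num₁⟩ := exists_num_u (n := 14) (k := 13) hqp (by omega) (by omega) (by omega) (by decide)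
    (by omega)
  obtain ⟨a, ha1, ha2⟩ := exists_big (n := 14) hF (c := 1) (k := 13) (by omega) (by decide) (by omega) (by omega)
    hm₁ num₁
  obtain ⟨m₂, hm₂, num₂⟩ := exists_num_u (n := 14) (k := 11) hqp (by omega) (by omega) (by omega) (by decide)
    (by omega)
  obtain ⟨b, hb1, hb2⟩ := exists_nine (n := 14) (k := 11) hF (by omega) (by decide) (by omega) (by omega) hm₂ num₂
  obtain ⟨l₃, B₃, hl₃, hu₃⟩ := exists_odd_block hF (k := 7) (by decide) (by norm_num) (by omega)
  obtain ⟨c, hc2⟩ := exists_double hF (n := 14) (by omega) B₃ hu₃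
  have hab : Inc a b := by
    refine inc_of hP hF ha2 hb2 ?_ (s := 1) (by rw [ha1]; exact num₁) ?_
    · rintro i h0 h1 ⟨i₁, j₁, rfl, h2, h3⟩ ⟨i₂, j₂, h4, h5, h6⟩
      interval_cases i₁ <;> interval_cases j₁ <;> interval_cases i₂ <;> interval_cases j₂ <;> omega
    · intro r E g g' hr hrd _ _ _
      have h2 := dvd_sub_of_gcd hrd
      exact hr.one_lt.ne' (Nat.dvd_one.1 h2)
  have hac : Inc a c := by
    refine inc_of hP hF ha2 hc2 ?_ (s := 1) (by rw [ha1]; exact num₁) ?_
    · rintro i h0 h1 ⟨i₁, j₁, rfl, h2, h3⟩ ⟨i₂, h4⟩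
      have g2 : i₂ ≤ 2 := by omega
      interval_cases i₁ <;> interval_cases j₁ <;> interval_cases i₂ <;> omega
    · intro r E g g' hr hrd _ _ _
      have h2 := dvd_sub_of_gcd hrd
      exact hr.one_lt.ne' (Nat.dvd_one.1 h2)
  have hbc : Inc b c := by
    refine inc_of hP hF hb2 hc2 ?_ (s := 9) (by rw [hb1]; exact num₂) ?_
    · rintro i h0 h1 ⟨i₁, j₁, rfl, h2, h3⟩ ⟨i₂, h4⟩
      have g2 : i₂ ≤ 2 := by omega
      interval_cases i₁ <;> interval_cases j₁ <;> interval_cases i₂ <;> omega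
    · intro r E g g' hr hrd _ _ _
      have h2 : Nat.gcd 14 11 = 1 := by norm_num
      rw [h2] at hrd
      exact hr.one_lt.ne' (Nat.dvd_one.1 hrd)
  exact noTwo_of_three hab hbc hac

end Cfsg.Agent.H981.Cov
end

-- part: H981/Cov/MainU
section
/-!
# S2499, rows `PSU_n(q)`, `n ≥ 10`, `(n, q) ≠ (10, 2)` (task 3941)
-/

set_option autoImplicit false

namespace Cfsg.Agent.H981.Cov

open Cfsg Cfsg.Agent.H278.Cov

variable {F : Type} [Field F] [Fintype F] {n q : ℕ}

/-- **the rows `SU_n(q)`, `n ≥ 10`, `(n, q) ≠ (10, 2)`** -/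
theorem noTwo_su (hP : Cfsg.Agent.H659.CovCore.S5948Stmt.{0}) (hF : Fintype.card F = q ^ 2) (hn : 10 ≤ n)
    (hex : ¬ (n = 10 ∧ q = 2)) : NoTwo (SU n F q) := by
  rcases Nat.even_or_odd n with he | ho
  · by_cases h10 : n = 10
    · subst h10
      exact row_ten hP hF fun h => hex ⟨rfl, h⟩
    by_cases h12 : n = 12
    · subst h12
      exact row_twelve hP hF
    have h14 : 14 ≤ n := by
      obtain ⟨t, ht⟩ := he
      omega
    by_cases h : n = 14 ∧ q = 2
    · obtain ⟨rfl, rfl⟩ := h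
      exact row_fourteen_two hP hF
    · exact row_even hP hF he h14 h
  · have h11 : 11 ≤ n := by
      obtain ⟨t, ht⟩ := ho
      omega
    by_cases h : n = 11 ∧ q = 2
    · obtain ⟨rfl, rfl⟩ := h
      exact row_eleven_two hP hF
    · exact row_odd hP hF ho h11 h

/-- **the rows `PSU_n(q)`, `n ≥ 10`, `(n, q) ≠ (10, 2)`** -/
theorem noTwo_psu_of (hP : Cfsg.Agent.H659.CovCore.S5948Stmt.{0}) (hF : Fintype.card F = q ^ 2) (hn : 10 ≤ n)
    (hex : ¬ (n = 10 ∧ q = 2)) : NoTwo (PSU n F q) :=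
  (noTwo_su hP hF hn hex).of_surjective Cfsg.Agent.H674.SUBlock.pr Cfsg.Agent.H674.SUBlock.pr_surjective

end Cfsg.Agent.H981.Cov
end

-- part: H981/Cov/Ten
section
/-!
# S2499, the row `PSU_10(2)` (task 3941)

The elements of order `19` are reducible of type `1 + 9`; their overgroups are found with `S5841`, `S5842`.
-/

set_option autoImplicit false

namespace Cfsg.Agent.H981.Cov

open Cfsg Cfsg.Geo Module Matrix
open Cfsg.Agent.LieClassical.HermBasic
open Cfsg.Agent.H278.Cov
open Cfsg.Agent.H674.SUTools (cm cm_injective det_cm mkSU cm_mkSU cm_isom orderOf_cm)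
open Cfsg.Agent.H779.DP (rho rho_apply rho_injective)
open Cfsg.Agent.H809.SelfCent (toG toG_injective toG_val)
open Cfsg.Agent.H906.Cov (exists_num_u)

/-- the text of `S5842` -/
def S5842Stmt : Prop :=
  ∀ {F : Type} [Field F] [Fintype F] (q : ℕ) (_hF : Fintype.card F = q ^ 2) (H : Subgroup (Matrix.GeneralLinearGroup (Fin 10) F)) (_hH : Cfsg.Geo.IsMaximalIn (Cfsg.GU 10 F q ⊓ Cfsg.Geo.specialLinear (Fin 10) F) H) (_hS : Cfsg.Geo.InUnitaryResidualClass H),
    ∃ (P : Subgroup (Matrix.GeneralLinearGroup (Fin 10) F)) (p : ℕ), Cfsg.Geo.IsResidualCore H P ∧ p.Prime ∧ CharP F p ∧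
    ((Nonempty ((P ⧸ (Cfsg.Geo.scalars (Fin 10) F).subgroupOf P) ≃* Matrix.ProjectiveSpecialLinearGroup (Fin 2) (ZMod 19)) ∧ q = p ∧ p ≠ 2 ∧ (p % 19 = 2 ∨ p % 19 = 3 ∨ p % 19 = 8 ∨ p % 19 = 10 ∨ p % 19 = 12 ∨ p % 19 = 13 ∨ p % 19 = 14 ∨ p % 19 = 15 ∨ p % 19 = 18)) ∨
     (Cfsg.Spor.IsoM12 (P ⧸ (Cfsg.Geo.scalars (Fin 10) F).subgroupOf P) ∧ q = p ∧ (p % 8 = 5 ∨ p % 8 = 7)) ∨
     (Cfsg.Spor.IsoM22 (P ⧸ (Cfsg.Geo.scalars (Fin 10) F).subgroupOf P) ∧ q = p ∧ (p % 28 = 5 ∨ p % 28 = 13 ∨ p % 28 = 17 ∨ p % 28 = 3 ∨ p % 28 = 19 ∨ p % 28 = 27)) ∨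
     (Nonempty ((P ⧸ (Cfsg.Geo.scalars (Fin 10) F).subgroupOf P) ≃* Cfsg.PSU 3 F q) ∧ 5 ≤ p) ∨
     (Nonempty ((P ⧸ (Cfsg.Geo.scalars (Fin 10) F).subgroupOf P) ≃* Cfsg.PSU 4 F q) ∧ 3 ≤ p) ∨
     Nonempty ((P ⧸ (Cfsg.Geo.scalars (Fin 10) F).subgroupOf P) ≃* Cfsg.PSU 5 F q))

/-! ### maximal subgroups of `SU` inside `GL` -/

section Max

variable {F : Type} [Field F] [Fintype F] {n q : ℕ}

theorem range_toG : (toG n F q).range = GU n F q ⊓ specialLinear (Fin n) F := by
  ext g
  constructor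
  · rintro ⟨z, rfl⟩
    refine ⟨fun u v => z.2 u v, ?_⟩
    apply Units.ext
    exact det_cm z
  · rintro ⟨h1, h2⟩
    have h3 : (g : Matrix (Fin n) (Fin n) F).det = 1 := congrArg Units.val (MonoidHom.mem_ker.1 h2)
    exact ⟨⟨⟨(g : Matrix (Fin n) (Fin n) F), h3⟩, fun u v => h1 u v⟩, Units.ext rfl⟩

theorem isMaximalIn_map {G G' : Type*} [Group G] [Group G'] (f : G →* G') (hf : Function.Injective f)
    {H : Subgroup G} (hH : IsCoatom H) : IsMaximalIn f.range (H.map f) := by
  constructor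
  · refine lt_of_le_of_ne ?_ ?_
    · rintro _ ⟨x, -, rfl⟩
      exact ⟨x, rfl⟩
    · intro h
      apply hH.1
      rw [eq_top_iff]
      intro x _
      have h1 : f x ∈ H.map f := by rw [h]; exact ⟨x, rfl⟩
      obtain ⟨y, hy, hyx⟩ := h1
      rwa [← hf hyx]
  · intro M hM1 hM2
    have h1 : H ≤ M.comap f := fun x hx => hM1 ⟨x, hx, rfl⟩
    have h2 : M = (M.comap f).map f := by
      ext y
      constructor
      · intro hy
        obtain ⟨x, rfl⟩ := hM2 hy
        exact ⟨x, hy, rfl⟩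
      · rintro ⟨x, hx, rfl⟩
        exact hx
    rcases eq_or_lt_of_le h1 with h3 | h3
    · left
      rw [h2, ← h3]
    · right
      rw [h2, hH.2 _ h3]
      ext y
      constructor
      · rintro ⟨x, -, rfl⟩
        exact ⟨x, rfl⟩
      · rintro ⟨x, rfl⟩
        exact ⟨x, trivial, rfl⟩

end Max

/-! ### elements of order `19` -/

/-- an element of large prime order fixes the members of a decomposition -/
theorem fix_decomp {F : Type} [Field F] {n t m l : ℕ} {D : Fin t → Submodule F (Fin n → F)} (hD : IsMDecomposition m D)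
    (hl : l.Prime) (htl : t < l) {g : GL (Fin n) F} (hg : g ∈ decompositionStabilizer D) (hgl : g ^ l = 1)
    (i : Fin t) : (D i).map (Matrix.toLin' (g : Matrix (Fin n) (Fin n) F)) = D i := by
  obtain ⟨σ, hσ⟩ := hg
  have hinj : ∀ i j, D i = D j → i = j := by
    intro i j hij
    by_contra hne
    have h1 : Disjoint (D i) (D j) := hD.indep.pairwiseDisjoint hne
    rw [← hij, disjoint_self] at h1
    have h2 := hD.finrank_eq i
    rw [h1, finrank_bot] at h2
    exact hD.pos.ne h2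
  have hpow : ∀ k : ℕ, ∀ i, (D i).map (Matrix.toLin' ((g ^ k : GL (Fin n) F) : Matrix (Fin n) (Fin n) F)) =
      D ((σ ^ k) i) := by
    intro k
    induction k with
    | zero => intro i; simp only [_root_.pow_zero, _root_.Units.val_one, _root_.Matrix.toLin'_one, _root_.Submodule.map_id, _root_.Equiv.Perm.coe_one, _root_.id_eq]
    | succ k ih =>
      intro i
      rw [pow_succ', Units.val_mul, Matrix.toLin'_mul, Submodule.map_comp, ih, hσ, pow_succ']
      rfl
  have h1 : σ ^ l = 1 := by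
    ext i
    have h2 := hpow l i
    rw [hgl, Units.val_one, Matrix.toLin'_one, Submodule.map_id] at h2
    rw [← hinj _ _ h2]
    rfl
  have h2 : σ = 1 := by
    rcases (Nat.dvd_prime hl).1 (orderOf_dvd_of_pow_eq_one h1) with h3 | h3
    · exact orderOf_eq_one_iff.1 h3
    · exfalso
      have h4 : l ∣ t.factorial := by
        rw [← h3]
        have := orderOf_dvd_card (x := σ)
        rwa [Fintype.card_perm, Fintype.card_fin] at this
      have := (hl.dvd_factorial).1 h4
      omega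
  rw [hσ, h2]
  rfl

/-- elements of order `19` do not act on `PSU_5(2)` -/
theorem residual_false {F : Type} [Field F] [Fintype F] (hF : Fintype.card F = 2 ^ 2)
    {M P : Subgroup (GL (Fin 10) F)} (hc : IsResidualCore M P)
    (e : (P ⧸ (scalars (Fin 10) F).subgroupOf P) ≃* PSU 5 F 2) {t : GL (Fin 10) F} (ht : t ∈ M)
    (ho : orderOf t = 19) : False := by
  have h19 : Nat.Prime 19 := by norm_num
  have ht19 : t ^ 19 = 1 := by rw [← ho, pow_orderOf_eq_one]
  have hti : t⁻¹ ∈ M := M.inv_mem ht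
  let α : P ≃* P :=
    { toFun := fun x => ⟨t * x * t⁻¹, hc.normal t ht x x.2⟩
      invFun := fun x => ⟨t⁻¹ * x * t⁻¹⁻¹, hc.normal _ hti x x.2⟩
      left_inv := fun x => Subtype.ext (by
        change t⁻¹ * (t * (x : GL (Fin 10) F) * t⁻¹) * t⁻¹⁻¹ = x
        group)
      right_inv := fun x => Subtype.ext (by
        change t * (t⁻¹ * (x : GL (Fin 10) F) * t⁻¹⁻¹) * t⁻¹ = x
        group)
      map_mul' := fun x y => Subtype.ext (by
        change t * ((x : GL (Fin 10) F) * y) * t⁻¹ = (t * x * t⁻¹) * (t * y * t⁻¹)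
        group) }
  have hα : ∀ x : P, ((α x : P) : GL (Fin 10) F) = t * x * t⁻¹ := fun _ => rfl
  have hαk : ∀ (k : ℕ) (x : P), (((α : MulAut P) ^ k) x : GL (Fin 10) F) = t ^ k * x * (t ^ k)⁻¹ := by
    intro k
    induction k with
    | zero => intro x; simp
    | succ k ih =>
      intro x
      have h1 : ((α : MulAut P) ^ (k + 1)) x = α (((α : MulAut P) ^ k) x) := by
        rw [pow_succ']; rfl
      rw [h1, hα, ih]
      rw [pow_succ']
      group
  set Z := (scalars (Fin 10) F).subgroupOf P with hZ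
  have hcent : ∀ z ∈ scalars (Fin 10) F, ∀ g : GL (Fin 10) F, g * z * g⁻¹ = z := by
    rintro z ⟨c, rfl⟩ g
    rw [mul_inv_eq_iff_eq_mul]
    apply Units.ext
    change (g : Matrix (Fin 10) (Fin 10) F) * Matrix.scalar (Fin 10) (c : F) =
      Matrix.scalar (Fin 10) (c : F) * (g : Matrix (Fin 10) (Fin 10) F)
    exact ((Matrix.scalar_commute (c : F) (fun _ => Commute.all _ _) (g : Matrix (Fin 10) (Fin 10) F)).eq).symm
  have hmap : Z.map (α : P →* P) = Z := by
    ext x
    constructor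
    · rintro ⟨y, hy, rfl⟩
      have h1 : (y : GL (Fin 10) F) ∈ scalars (Fin 10) F := hy
      change ((α y : P) : GL (Fin 10) F) ∈ scalars (Fin 10) F
      rw [hα, hcent _ h1]
      exact h1
    · intro hx
      have h1 : (x : GL (Fin 10) F) ∈ scalars (Fin 10) F := hx
      refine ⟨x, hx, Subtype.ext ?_⟩
      change t * (x : GL (Fin 10) F) * t⁻¹ = x
      exact hcent _ h1 t
  let β : MulAut (P ⧸ Z) := QuotientGroup.congr Z Z α hmap
  have hβ : ∀ x : P, β (QuotientGroup.mk x) = QuotientGroup.mk (α x) := fun _ => rfl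
  have hβk : ∀ (k : ℕ) (x : P), (β ^ k) (QuotientGroup.mk x) = QuotientGroup.mk (((α : MulAut P) ^ k) x) := by
    intro k
    induction k with
    | zero => intro x; rfl
    | succ k ih =>
      intro x
      have h1 : (β ^ (k + 1)) (QuotientGroup.mk x) = β ((β ^ k) (QuotientGroup.mk x)) := by
        rw [pow_succ']; rfl
      have h2 : ((α : MulAut P) ^ (k + 1)) x = α (((α : MulAut P) ^ k) x) := by
        rw [pow_succ']; rfl
      rw [h1, ih, hβ, h2]
  have hβ19 : β ^ 19 = 1 := by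
    apply MulEquiv.ext
    intro y
    obtain ⟨x, rfl⟩ := QuotientGroup.mk_surjective y
    rw [hβk]
    have h1 : ((α : MulAut P) ^ 19) x = x := by
      apply Subtype.ext
      rw [hαk, ht19, inv_one, mul_one, one_mul]
    rw [h1]
    rfl
  have hβ1 : β ≠ 1 := by
    intro h
    have h1 : t ∈ scalars (Fin 10) F := by
      apply hc.centralizer_scalar t ht
      intro x hx
      have h2 : β (QuotientGroup.mk (⟨x, hx⟩ : P)) = QuotientGroup.mk (⟨x, hx⟩ : P) := by rw [h]; rfl
      rw [hβ, QuotientGroup.eq] at h2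
      have h3 : ((α ⟨x, hx⟩ : P)⁻¹ * (⟨x, hx⟩ : P) : P).1 ∈ scalars (Fin 10) F := h2
      have h4 : (t * x * t⁻¹)⁻¹ * x ∈ scalars (Fin 10) F := h3
      have h5 := hcent _ h4 x
      have h6 : t * x * t⁻¹ * x⁻¹ = ((t * x * t⁻¹)⁻¹ * x)⁻¹ := by
        rw [← h5]
        group
      rw [h6]
      exact Subgroup.inv_mem _ h4
    obtain ⟨c, hc1⟩ := h1
    have h2 : t ^ 3 = 1 := by
      have h3 : c ^ 3 = 1 := by
        apply Units.ext
        have h4 := FiniteField.pow_card_sub_one_eq_one (c : F) c.ne_zero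
        rw [hF] at h4
        exact h4
      rw [← hc1, ← map_pow, h3, map_one]
    have h3 := orderOf_dvd_of_pow_eq_one h2
    rw [ho] at h3
    exact absurd h3 (by norm_num)
  have hoβ : orderOf β = 19 := by
    have := Fact.mk h19
    exact orderOf_eq_prime hβ19 hβ1
  have hfin : Finite (PSU 5 F 2) := Quotient.finite _
  have : Finite (P ⧸ Z) := Quotient.finite _
  have hdvd : 19 ∣ Nat.card (MulAut (PSU 5 F 2)) := by
    have h1 : Nat.card (MulAut (P ⧸ Z)) = Nat.card (MulAut (PSU 5 F 2)) :=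
      Nat.card_congr (MulAut.congr e).toEquiv
    rw [← h1, ← hoβ]
    exact orderOf_dvd_natCard β
  have : Fact (Nat.Prime 2) := ⟨Nat.prime_two⟩
  rw [S0815.result 2 1 le_rfl (q := 2) (by norm_num) hF 5 (by norm_num) (by norm_num)] at hdvd
  have hcard := S0280.result (q := 2) hF 5 (by norm_num)
  simp only [Finset.prod_range_succ, Finset.prod_range_zero] at hcard
  norm_num only [_root_.one_mul, _root_.ite_true, _root_.ite_false] at hcard hdvd
  omega

section Row

variable {F : Type} [Field F] [Fintype F]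

/-- elements `1 + [9]` of order `19` -/
theorem exists_nineteen (hF : Fintype.card F = 2 ^ 2) : ∃ x : SU 10 F 2, orderOf x = 19 ∧ fd x = 1 ∧
    IsD x (fun t => ∃ i j, t = 9 * i + j ∧ i ≤ 1 ∧ j ≤ 1) := by
  obtain ⟨l, B, hl, u, hu⟩ := exists_odd_block hF (k := 9) (by decide) (by norm_num) (by norm_num)
  have h19 : l = 19 := by
    have h1 : l ∣ 2 ^ 9 + 1 := dvd_add_one B.pr (by norm_num) hl
    have h2 : (2 ^ 9 + 1 : ℕ) = 3 ^ 3 * 19 := by norm_num
    rw [h2] at h1
    rcases (Nat.Prime.dvd_mul B.pr).1 h1 with h3 | h3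
    · exfalso
      have h4 : l = 3 := (Nat.prime_dvd_prime_iff_eq B.pr Nat.prime_three).1 (B.pr.dvd_of_dvd_pow h3)
      have h5 := (hl 2).1 (by rw [h4]; norm_num)
      omega
    · exact (Nat.prime_dvd_prime_iff_eq B.pr (by norm_num)).1 h3
  subst h19
  have hul : u ^ 19 = 1 := by rw [← hu, pow_orderOf_eq_one]
  have hune : u ≠ 1 := by
    intro h
    rw [h, orderOf_one] at hu
    omega
  have hfu := B.ff u hul hune
  have hfd : fd (bk hF ((1 : SU 1 F 2), u)) = 1 := by rw [fd_bk, hfu, fd_one]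
  refine ⟨bk hF ((1 : SU 1 F 2), u), ?_, hfd, ?_⟩
  · rw [orderOf_injective _ (bk_injective hF), Prod.orderOf_mk, orderOf_one, Nat.lcm_one_left, hu]
  · intro W hW
    have hT : (rho (1 + 9) F 2 (bk hF ((1 : SU 1 F 2), u))) ^ 19 = 1 := by
      rw [← map_pow, ← map_pow, Prod.pow_mk, hul, one_pow]
      have : bk hF ((1 : SU 1 F 2), (1 : SU 9 F 2)) = 1 := map_one (bk hF)
      rw [this, map_one]
    obtain ⟨i, j, h1, h2, h3, -⟩ := dim_one B.pr B.pos B.ord hT hW
    have hfd' : finrank F (fx (rho (1 + 9) F 2 (bk hF ((1 : SU 1 F 2), u)))) = 1 := hfd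
    rw [hfd', finrank_fin_fun] at h2
    rw [hfd'] at h3
    exact ⟨i, j, h1, by omega, h3⟩

omit [Fintype F] in
theorem map_le_of_mem {W : Submodule F (Fin 10 → F)} {z : SU 10 F 2}
    (h : W.map (Matrix.toLin' (toG 10 F 2 z : Matrix (Fin 10) (Fin 10) F)) = W) :
    ∀ w ∈ W, rho 10 F 2 z w ∈ W := by
  intro w hw
  rw [← h]
  exact Submodule.mem_map_of_mem hw

/-- elements `1 + [9]` and `[5] + [5]` of `SU_10(2)` -/
theorem inc_nineteen (h42 : S5842Stmt) (hF : Fintype.card F = 2 ^ 2) {x y : SU 10 F 2} (hx : orderOf x = 19)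
    (hfx : fd x = 1) (hxD : IsD x (fun t => ∃ i j, t = 9 * i + j ∧ i ≤ 1 ∧ j ≤ 1))
    (hyD : IsD y (fun t => ∃ i, t = 5 * i)) : Inc x y := by
  have h19 : Nat.Prime 19 := by norm_num
  apply inc_of_coatom
  intro H hH
  by_contra hcon
  rw [not_or] at hcon
  obtain ⟨h1, h2⟩ := hcon
  obtain ⟨g, hg⟩ := not_av h1
  obtain ⟨g', hg'⟩ := not_av h2
  have hM := isMaximalIn_map (toG 10 F 2) toG_injective hH
  rw [range_toG] at hM
  set M := H.map (toG 10 F 2) with hMdef
  have hgM : toG 10 F 2 (g * x * g⁻¹) ∈ M := ⟨_, hg, rfl⟩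
  have hgM' : toG 10 F 2 (g' * y * g'⁻¹) ∈ M := ⟨_, hg', rfl⟩
  have hog : orderOf (toG 10 F 2 (g * x * g⁻¹)) = 19 := by
    rw [orderOf_injective _ toG_injective, ← hx]
    exact orderOf_injective (MulAut.conj g).toMonoidHom (MulAut.conj g).injective x
  have hg19 : toG 10 F 2 (g * x * g⁻¹) ^ 19 = 1 := by rw [← hog, pow_orderOf_eq_one]
  -- dimensions
  have hdx : ∀ W : Submodule F (Fin 10 → F), (∀ w ∈ W, rho 10 F 2 (g * x * g⁻¹) w ∈ W) →
      ∃ i j, finrank F W = 9 * i + j ∧ i ≤ 1 ∧ j ≤ 1 := by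
    intro W hW
    obtain ⟨W', hW', hW''⟩ := exists_inv_conj hW
    have := hxD W' hW''
    rwa [hW'] at this
  have hdy : ∀ W : Submodule F (Fin 10 → F), (∀ w ∈ W, rho 10 F 2 (g' * y * g'⁻¹) w ∈ W) →
      ∃ i, finrank F W = 5 * i := by
    intro W hW
    obtain ⟨W', hW', hW''⟩ := exists_inv_conj hW
    have := hyD W' hW''
    rwa [hW'] at this
  have hred : ∀ W : Submodule F (Fin 10 → F), W ≠ ⊥ → W ≠ ⊤ → M ≤ subspaceStabilizer W → False := by
    intro W hW0 hW1 hW
    obtain ⟨i, j, h3, h4, h5⟩ := hdx W (fun w hw => ((hW hgM) w).1 hw)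
    obtain ⟨k, h6⟩ := hdy W (fun w hw => ((hW hgM') w).1 hw)
    have h7 : finrank F W ≠ 0 := fun h => hW0 (Submodule.finrank_eq_zero.1 h)
    have h8 := Submodule.finrank_lt hW1
    rw [finrank_fin_fun] at h8
    interval_cases i <;> interval_cases j <;> (clear * - h6 h7 h3 h8; omega)
  have hfive : ∀ D : Fin 2 → Submodule F (Fin 10 → F), IsMDecomposition 5 D →
      M ≤ decompositionStabilizer D → False := by
    intro D hD hle
    obtain ⟨i, j, h3, h4, h5⟩ := hdx (D 0) (map_le_of_mem (fix_decomp hD h19 (by norm_num) (hle hgM) hg19 0))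
    rw [hD.finrank_eq] at h3
    interval_cases i <;> interval_cases j <;> omega
  rcases S5841.result 2 hF M hM with h | h | h | h | h | h | h | h | h | h | h | h
  · obtain ⟨W, hW0, -, hW⟩ := h
    refine hred W hW0 ?_ (by rw [hW]; exact inf_le_left)
    rintro rfl
    apply hM.1.ne
    rw [hW, inf_eq_right]
    intro z _ v
    exact ⟨fun _ => trivial, fun _ => trivial⟩
  · obtain ⟨W, hW0, -, hW1, hW⟩ := h
    refine hred W hW0 ?_ (by rw [hW]; exact inf_le_left)
    rintro rfl
    rw [finrank_top, finrank_fin_fun] at hW1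
    omega
  · obtain ⟨D, hD, hM2⟩ := h
    have hle : M ≤ decompositionStabilizer D := by rw [hM2]; exact inf_le_left
    have hfix := fix_decomp hD.decomp h19 (by norm_num) (hle hgM) hg19
    have h3 : ∀ w ∈ D 0 ⊔ D 1, rho 10 F 2 (g * x * g⁻¹) w ∈ D 0 ⊔ D 1 := by
      apply map_le_of_mem
      rw [Submodule.map_sup, hfix, hfix]
    obtain ⟨i, j, h4, h5, h6⟩ := hdx _ h3
    have h7 : Disjoint (D 0) (D 1) := hD.decomp.indep.pairwiseDisjoint (by decide)
    have h8 := Submodule.finrank_sup_add_finrank_inf_eq (D 0) (D 1)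
    rw [h7.eq_bot, finrank_bot, hD.decomp.finrank_eq, hD.decomp.finrank_eq, h4] at h8
    interval_cases i <;> interval_cases j <;> omega
  · exact absurd h.1 (by norm_num)
  · obtain ⟨D, hD, hM2⟩ := h
    exact hfive D hD.decomp (by rw [hM2]; exact inf_le_left)
  · obtain ⟨D, hD, -, hM2⟩ := h
    exact hfive D hD (by rw [hM2]; exact inf_le_left)
  · obtain ⟨K, hK, -, hM2⟩ := h
    have hle : M ≤ subalgebraNormalizer K := by rw [hM2]; exact inf_le_left
    have h3 := ext_kill (s := 1) Nat.prime_five h19 (by norm_num) hK (hle hgM)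
      (by rw [pow_one, ← hx, pow_orderOf_eq_one])
    rw [pow_one, hfx] at h3
    omega
  · exact absurd h.1 (by norm_num)
  · obtain ⟨F₀, r, P, hr, hro, hc, -, -⟩ := h
    have h3 : 1 < Nat.card F₀ := Finite.one_lt_card
    have h4 : 3 ≤ r := by
      have := hr.two_le
      obtain ⟨k, hk⟩ := hro
      omega
    have h5 : 2 ^ 3 ≤ Nat.card F₀ ^ r := (Nat.pow_le_pow_left h3 3).trans (Nat.pow_le_pow_right (by omega) h4)
    rw [← hc, hF] at h5
    omega
  · obtain ⟨F₀, P, ζ, hc, -, -, -, -, hM2⟩ := h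
    have hle : M ≤ subfieldSubgroup F₀ P := by rw [hM2]; exact inf_le_left
    have h3 : 19 ∣ Nat.card (subfieldSubgroup F₀ P) := by
      rw [← hog, ← Subgroup.orderOf_mk _ (hle hgM)]
      exact orderOf_dvd_natCard _
    have h4 : Nat.card F₀ = 2 := by
      rw [hF] at hc
      exact (Nat.pow_left_injective (by norm_num : 2 ≠ 0) hc).symm
    rcases Cfsg.Agent.H659.CovCore.prime_dvd_subfield F₀ P h19 h3 with h5 | h5 | ⟨j, hj1, hj2, h5⟩
    · rw [hF] at h5
      omega
    · rw [h4] at h5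
      omega
    · rw [h4] at h5
      interval_cases j <;> omega
  · exact absurd h.1 (by decide)
  · obtain ⟨P, p, hc, hp, hcp, hlist⟩ := h42 2 hF M hM h
    have hp2 : p = 2 := by
      have h3 : p ∣ Fintype.card F := by
        rw [← CharP.cast_eq_zero_iff F p, FiniteField.cast_card_eq_zero]
      rw [hF] at h3
      exact (Nat.prime_dvd_prime_iff_eq hp Nat.prime_two).1 (hp.dvd_of_dvd_pow h3)
    subst hp2
    rcases hlist with h | h | h | h | h | h
    · exact h.2.2.1 rfl
    · have := h.2.2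
      omega
    · have := h.2.2
      omega
    · omega
    · omega
    · obtain ⟨e⟩ := h
      exact residual_false hF hc e hgM hog

/-- `U_10(2)` -/
theorem row_ten_two (hP : Cfsg.Agent.H659.CovCore.S5948Stmt.{0}) (h42 : S5842Stmt) (hF : Fintype.card F = 2 ^ 2) :
    NoTwo (SU 10 F 2) := by
  have hqp := isPrimePow_q hF
  obtain ⟨a, ha1, ha2, ha3⟩ := exists_nineteen hF
  obtain ⟨m₂, hm₂, num₂⟩ := exists_num_u (n := 10) (k := 7) hqp (by omega) (by omega) (by omega) (by decide)
    (by omega)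
  obtain ⟨b, hb1, hb2⟩ := exists_nine (n := 10) (k := 7) hF (by omega) (by decide) (by omega) (by omega) hm₂ num₂
  obtain ⟨l₃, B₃, hl₃, hu₃⟩ := exists_odd_block hF (k := 5) (by decide) (by norm_num) (by omega)
  obtain ⟨c, hc2⟩ := exists_double hF (n := 10) (by omega) B₃ hu₃
  have hba : Inc b a := by
    refine inc_of hP hF hb2 ha3 ?_ (s := 9) (by rw [hb1]; exact num₂) ?_
    · rintro i h0 h1 ⟨i₁, j₁, rfl, h2, h3⟩ ⟨i₂, j₂, h4, h5, h6⟩
      interval_cases i₁ <;> interval_cases j₁ <;> interval_cases i₂ <;> interval_cases j₂ <;> omega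
    · intro r E g g' hr hrd _ _ _
      have h2 : Nat.gcd 10 7 = 1 := by norm_num
      rw [h2] at hrd
      exact hr.one_lt.ne' (Nat.dvd_one.1 hrd)
  have hbc : Inc b c := by
    refine inc_of hP hF hb2 hc2 ?_ (s := 9) (by rw [hb1]; exact num₂) ?_
    · rintro i h0 h1 ⟨i₁, j₁, rfl, h2, h3⟩ ⟨i₂, h4⟩
      have g2 : i₂ ≤ 2 := by omega
      interval_cases i₁ <;> interval_cases j₁ <;> interval_cases i₂ <;> omega
    · intro r E g g' hr hrd _ _ _
      have h2 : Nat.gcd 10 7 = 1 := by norm_num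
      rw [h2] at hrd
      exact hr.one_lt.ne' (Nat.dvd_one.1 hrd)
  exact noTwo_of_three hba.symm hbc (inc_nineteen h42 hF ha1 ha2 ha3 hc2)

end Row

/-- **the rows `PSU_n(q)`, `n ≥ 10`** -/
theorem noTwo_psu (hP : Cfsg.Agent.H659.CovCore.S5948Stmt.{0}) (h42 : S5842Stmt) {n q : ℕ} {F : Type} [Field F]
    [Fintype F] (hF : Fintype.card F = q ^ 2) (hn : 10 ≤ n) : NoTwo (PSU n F q) := by
  by_cases h : n = 10 ∧ q = 2
  · obtain ⟨rfl, rfl⟩ := h
    exact (row_ten_two hP h42 hF).of_surjective Cfsg.Agent.H674.SUBlock.pr Cfsg.Agent.H674.SUBlock.pr_surjective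
  · exact noTwo_psu_of hP hF hn h

end Cfsg.Agent.H981.Cov
end

private theorem dce_4233019c99c3 : _root_.True := by
  try have : _root_.True := by simp only [_root_.Cfsg.Agent.H981.Cov.Y.eq_1]
  exact _root_.True.intro
end
end
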